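import Cfsg.Agent.Lib.Known.ChevSinger.Torus
import Cfsg.Agent.Lib.Chev.Data.F4
import Cfsg.Agent.Lib.Chev.Poincare
import Cfsg.Agent.Lib.Chev.Coxeter

/-!
# The Weyl group of `F₄` has no element with two of the cyclotomic eigenvalues of orders 3, 4, 6

The Weyl group is written as a product of four lists of coset representatives, certified by the
action on the fundamental roots; the three determinants are checked for each product.
-/

set_option autoImplicit false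
set_option maxRecDepth 20000

namespace CfsgLib.Known.F4Graph

open Cfsg.Lie CfsgLib.Chev CfsgLib.Chev.Table CfsgLib.Known.ChevSinger Matrix

local notation "D" => chevF4
local notation "hF" => DataF4.facts

/-- A four by four integer matrix. -/
structure M4 : Type where
  a : ℤ
  b : ℤ
  c : ℤ
  d : ℤ
  e : ℤ
  f : ℤ
  g : ℤ
  h : ℤ
  i : ℤ
  j : ℤ
  k : ℤ
  l : ℤ
  m : ℤ
  n : ℤ
  o : ℤ
  p : ℤ

/-- The matrix of a record. -/
def M4.mat (A : M4) : Matrix (Fin 4) (Fin 4) ℤ :=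
  !![A.a, A.b, A.c, A.d; A.e, A.f, A.g, A.h; A.i, A.j, A.k, A.l; A.m, A.n, A.o, A.p]

/-- The product. -/
def M4.mul (A B : M4) : M4 :=
  ⟨A.a * B.a + A.b * B.e + A.c * B.i + A.d * B.m,
    A.a * B.b + A.b * B.f + A.c * B.j + A.d * B.n,
    A.a * B.c + A.b * B.g + A.c * B.k + A.d * B.o,
    A.a * B.d + A.b * B.h + A.c * B.l + A.d * B.p,
    A.e * B.a + A.f * B.e + A.g * B.i + A.h * B.m,
    A.e * B.b + A.f * B.f + A.g * B.j + A.h * B.n,
    A.e * B.c + A.f * B.g + A.g * B.k + A.h * B.o,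
    A.e * B.d + A.f * B.h + A.g * B.l + A.h * B.p,
    A.i * B.a + A.j * B.e + A.k * B.i + A.l * B.m,
    A.i * B.b + A.j * B.f + A.k * B.j + A.l * B.n,
    A.i * B.c + A.j * B.g + A.k * B.k + A.l * B.o,
    A.i * B.d + A.j * B.h + A.k * B.l + A.l * B.p,
    A.m * B.a + A.n * B.e + A.o * B.i + A.p * B.m,
    A.m * B.b + A.n * B.f + A.o * B.j + A.p * B.n,
    A.m * B.c + A.n * B.g + A.o * B.k + A.p * B.o,
    A.m * B.d + A.n * B.h + A.o * B.l + A.p * B.p⟩

/-- The determinant. -/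
def M4.det (A : M4) : ℤ :=
  A.a * (A.f * (A.k * (A.p) - A.l * (A.o)) - A.g * (A.j * (A.p) - A.l * (A.n)) + A.h * (A.j * (A.o) - A.k * (A.n))) - A.b * (A.e * (A.k * (A.p) - A.l * (A.o)) - A.g * (A.i * (A.p) - A.l * (A.m)) + A.h * (A.i * (A.o) - A.k * (A.m))) + A.c * (A.e * (A.j * (A.p) - A.l * (A.n)) - A.f * (A.i * (A.p) - A.l * (A.m)) + A.h * (A.i * (A.n) - A.j * (A.m))) - A.d * (A.e * (A.j * (A.o) - A.k * (A.n)) - A.f * (A.i * (A.o) - A.k * (A.m)) + A.g * (A.i * (A.n) - A.j * (A.m)))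

/-- The polynomial `x ^ 2 + s x + 1`. -/
def M4.quad (A : M4) (s : ℤ) : M4 :=
  let A2 := A.mul A
  ⟨A2.a + s * A.a + 1,
    A2.b + s * A.b,
    A2.c + s * A.c,
    A2.d + s * A.d,
    A2.e + s * A.e,
    A2.f + s * A.f + 1,
    A2.g + s * A.g,
    A2.h + s * A.h,
    A2.i + s * A.i,
    A2.j + s * A.j,
    A2.k + s * A.k + 1,
    A2.l + s * A.l,
    A2.m + s * A.m,
    A2.n + s * A.n,
    A2.o + s * A.o,
    A2.p + s * A.p + 1⟩

theorem M4.mat_mul (A B : M4) : (A.mul B).mat = A.mat * B.mat := by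
  ext i j
  fin_cases i <;> fin_cases j <;> simp [M4.mat, M4.mul, Matrix.mul_apply, Fin.sum_univ_four]

theorem M4.mat_det (A : M4) : A.mat.det = A.det := by
  simp [M4.mat, M4.det, Matrix.det_succ_row_zero, Fin.sum_univ_succ, Fin.succAbove]
  ring

theorem M4.mat_quad (A : M4) (s : ℤ) : (A.quad s).mat = A.mat * A.mat + s • A.mat + 1 := by
  rw [← M4.mat_mul]
  ext i j
  fin_cases i <;> fin_cases j <;> simp [M4.mat, M4.quad]

/-- No prime above three divides the determinant. -/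
def M4.smallDet (A : M4) : Bool :=
  let x := A.det.natAbs
  !(Nat.beq x 0) && Nat.beq (2176782336 % x) 0

/-- At most one of the three determinants has a prime divisor above three. -/
def M4.good (A : M4) : Bool :=
  let t := (A.quad 1).smallDet
  let u := (A.quad 0).smallDet
  let v := (A.quad (-1)).smallDet
  (t && u) || (t && v) || (u && v)

/-- Representatives of the cosets. -/
def reps : List (List (List ℕ)) :=
  [[[], [0]], [[], [1], [0, 1]], [[], [2], [1, 2], [0, 1, 2], [2, 1, 2], [2, 0, 1, 2], [1, 2, 0, 1, 2], [2, 1, 2, 0, 1, 2]], [[], [3], [2, 3], [1, 2, 3], [0, 1, 2, 3], [2, 1, 2, 3], [2, 0, 1, 2, 3], [3, 2, 1, 2, 3], [1, 2, 0, 1, 2, 3], [3, 2, 0, 1, 2, 3], [2, 1, 2, 0, 1, 2, 3], [3, 1, 2, 0, 1, 2, 3], [3, 2, 1, 2, 0, 1, 2, 3], [2, 3, 1, 2, 0, 1, 2, 3], [2, 3, 2, 1, 2, 0, 1, 2, 3], [1, 2, 3, 1, 2, 0, 1, 2, 3], [1, 2, 3, 2, 1, 2, 0, 1, 2, 3], [0, 1, 2, 3, 1, 2, 0, 1, 2, 3], [0, 1, 2, 3, 2, 1, 2, 0, 1, 2, 3],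 [2, 1, 2, 3, 2, 1, 2, 0, 1, 2, 3], [2, 0, 1, 2, 3, 2, 1, 2, 0, 1, 2, 3], [1, 2, 0, 1, 2, 3, 2, 1, 2, 0, 1, 2, 3], [2, 1, 2, 0, 1, 2, 3, 2, 1, 2, 0, 1, 2, 3], [3, 2, 1, 2, 0, 1, 2, 3, 2, 1, 2, 0, 1, 2, 3]]]

/-- The neighbours of the representatives. -/
def nbs : List (List (List ℕ)) :=
  [[[2], [0]], [[1, 2], [4, 0], [2, 1]], [[1, 3, 2], [1, 4, 0], [6, 2, 8], [4, 1, 10], [10, 3, 4], [8, 12, 6], [3, 10, 14], [3, 1, 12]], [[1, 3, 5, 2], [1, 3, 4, 0], [1, 6, 2, 5], [8, 4, 10, 5], [6, 1, 12, 5], [12, 3, 6, 14], [10, 16, 8, 18], [18, 3, 5, 10], [3, 12, 20, 22], [14, 22, 5, 12], [3, 1, 16, 24], [3, 18, 26, 16], [3, 1, 28, 20], [3, 30, 22, 28], [3, 32, 24, 26], [34, 26, 5, 32], [36, 28, 38, 30], [30, 3, 5, 36], [32, 3, 40, 34], [40, 1, 32, 5], [38, 42, 36, 5], [1, 40, 44, 5], [1, 3, 42, 46], [1, 3, 5, 44]]]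

/-- The matrix of a list. -/
def M4.ofList (l : List ℤ) : M4 :=
  ⟨l.getD 0 0, l.getD 1 0, l.getD 2 0, l.getD 3 0, l.getD 4 0, l.getD 5 0, l.getD 6 0, l.getD 7 0, l.getD 8 0, l.getD 9 0, l.getD 10 0, l.getD 11 0, l.getD 12 0, l.getD 13 0, l.getD 14 0, l.getD 15 0⟩

/-- The matrices of the representatives. -/
def repMats : List (List (List ℤ)) :=
  [[[1, 0, 0, 0, 0, 1, 0, 0, 0, 0, 1, 0, 0, 0, 0, 1], [-1, 1, 0, 0, 0, 1, 0, 0, 0, 0, 1, 0, 0, 0, 0, 1]], [[1, 0, 0, 0, 0, 1, 0, 0, 0, 0, 1, 0, 0, 0, 0, 1], [1, 0, 0, 0, 1, -1, 2, 0, 0, 0, 1, 0, 0, 0, 0, 1], [0, -1, 2, 0, 1, -1, 2, 0, 0, 0, 1, 0, 0, 0, 0, 1]], [[1, 0, 0, 0, 0, 1, 0, 0, 0, 0, 1, 0, 0, 0, 0, 1], [1, 0, 0, 0, 0, 1, 0, 0, 0, 1, -1, 1, 0, 0, 0, 1], [1, 0, 0, 0, 1, 1, -2, 2, 0, 1, -1, 1, 0, 0, 0, 1], [0, 1, -2, 2, 1, 1, -2, 2, 0, 1, -1, 1, 0, 0, 0, 1], [1, 0, 0, 0, 1, 1, -2, 2, 1, 0, -1, 2, 0, 0, 0, 1], [0, 1, -2, 2, 1, 1, -2, 2, 1, 0, -1, 2, 0, 0, 0, 1], [0, 1, -2,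 2, 1, 0, -2, 4, 1, 0, -1, 2, 0, 0, 0, 1], [0, 1, -2, 2, 1, 0, -2, 4, 0, 0, -1, 3, 0, 0, 0, 1]], [[1, 0, 0, 0, 0, 1, 0, 0, 0, 0, 1, 0, 0, 0, 0, 1], [1, 0, 0, 0, 0, 1, 0, 0, 0, 0, 1, 0, 0, 0, 1, -1], [1, 0, 0, 0, 0, 1, 0, 0, 0, 1, 0, -1, 0, 0, 1, -1], [1, 0, 0, 0, 1, 1, 0, -2, 0, 1, 0, -1, 0, 0, 1, -1], [0, 1, 0, -2, 1, 1, 0, -2, 0, 1, 0, -1, 0, 0, 1, -1], [1, 0, 0, 0, 1, 1, 0, -2, 1, 0, 1, -2, 0, 0, 1, -1], [0, 1, 0, -2, 1, 1, 0, -2, 1, 0, 1, -2, 0, 0, 1, -1], [1, 0, 0, 0, 1, 1, 0, -2, 1, 0, 1, -2, 1, 0, 0, -1], [0, 1, 0, -2, 1, 0, 2, -4, 1, 0, 1, -2, 0, 0, 1, -1], [0, 1, 0, -2, 1, 1, 0, -2, 1, 0, 1, -2, 1, 0, 0, -1], [0, 1, 0, -2, 1, 0, 2, -4, 0, 0, 2, -3, 0, 0, 1, -1], [0, 1, 0, -2, 1, 0, 2, -4, 1, 0, 1, -2, 1, 0, 0, -1], [0, 1, 0, -2, 1, 0, 2, -4, 0, 0, 2, -3, 0, 0, 1, -2], [0, 1, 0, -2, 1, 0, 2, -4, 1, 0, 1, -3, 1, 0, 0, -1], [0, 1, 0, -2, 1, 0, 2, -4, 1, 0, 1, -3, 0, 0, 1, -2], [0, 1, 0, -2, 1, 1, 0, -4, 1, 0, 1,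 -3, 1, 0, 0, -1], [0, 1, 0, -2, 1, 1, 0, -4, 1, 0, 1, -3, 0, 0, 1, -2], [1, 0, 0, -2, 1, 1, 0, -4, 1, 0, 1, -3, 1, 0, 0, -1], [1, 0, 0, -2, 1, 1, 0, -4, 1, 0, 1, -3, 0, 0, 1, -2], [0, 1, 0, -2, 1, 1, 0, -4, 0, 1, 0, -3, 0, 0, 1, -2], [1, 0, 0, -2, 1, 1, 0, -4, 0, 1, 0, -3, 0, 0, 1, -2], [1, 0, 0, -2, 0, 1, 0, -4, 0, 1, 0, -3, 0, 0, 1, -2], [1, 0, 0, -2, 0, 1, 0, -4, 0, 0, 1, -3, 0, 0, 1, -2], [1, 0, 0, -2, 0, 1, 0, -4, 0, 0, 1, -3, 0, 0, 0, -1]]]

/-- The `a`-th representative at level `k`. -/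
def rep (k a : ℕ) : List ℕ := (reps.getD k []).getD a []

/-- The matrix of the `a`-th representative at level `k`. -/
def repMat (k a : ℕ) : M4 := M4.ofList ((repMats.getD k []).getD a [])

/-- The number of representatives. -/
def size (k : ℕ) : ℕ := [2, 3, 8, 24].getD k 0

/-- The images of the fundamental roots agree. -/
def sameImg (v w : List ℕ) : Bool :=
  allBelow 4 fun q => Nat.beq (actW DataF4.tab v (DataF4.tab.smp q)) (actW DataF4.tab w (DataF4.tab.smp q))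

/-- The check of the representatives. -/
def chkReps : Bool :=
  allBelow 4 fun k =>
    Nat.blt 0 (size k) && (rep k 0).isEmpty &&
    allBelow (size k) fun a =>
      ((rep k a).all fun i => Nat.ble i k) &&
      (allBelow (k + 1) fun j =>
        let c := ((nbs.getD k []).getD a []).getD j 0
        bif Nat.beq (c % 2) 0 then Nat.blt (c / 2) (size k) && sameImg (j :: rep k a) (rep k (c / 2))
        else Nat.blt (c / 2) k && sameImg (j :: rep k a) (rep k a ++ [c / 2])) &&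
      allBelow 4 fun i => allBelow 4 fun j => decide
        (((repMats.getD k []).getD a []).getD (4 * j + i) 0 =
          DataF4.tab.co (actW DataF4.tab (rep k a) (DataF4.tab.smp i)) j)

/-- The check of the determinants. -/
def chkGood : Bool :=
  allBelow 24 fun a => allBelow 8 fun b =>
    let ab := (repMat 3 a).mul (repMat 2 b)
    allBelow 3 fun c =>
      let abc := ab.mul (repMat 1 c)
      allBelow 2 fun e => (abc.mul (repMat 0 e)).good

theorem chk_reps : chkReps = true := by decide +kernel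

theorem chk_good : chkGood = true := by decide +kernel

/-- A list of numbers as a word. -/
def word (l : List ℕ) : List (Fin chevF4.rank) :=
  l.filterMap fun i => if h : i < chevF4.rank then some ⟨i, h⟩ else none

theorem rank_four : chevF4.rank = 4 := by decide +kernel

theorem word_map {l : List ℕ} (h : ∀ i ∈ l, i < 4) : (word l).map Fin.val = l := by
  induction l with
  | nil => rfl
  | cons i l ih =>
    have hi : i < chevF4.rank := by rw [rank_four]; exact h i (by simp)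
    simp only [word, List.filterMap_cons, dif_pos hi, List.map_cons]
    rw [← word, ih fun x hx => h x (by simp [hx])]

theorem word_append (v w : List ℕ) : word (v ++ w) = word v ++ word w := by
  simp [word, List.filterMap_append]

theorem word_cons (j : Fin chevF4.rank) (w : List ℕ) : word (j.val :: w) = j :: word w := by
  simp [word, j.isLt]

theorem sW_of_sameImg {v w : List ℕ} (hv : ∀ i ∈ v, i < 4) (hw : ∀ i ∈ w, i < 4)
    (h : sameImg v w = true) : sW D (word v) = sW D (word w) := by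
  refine Facts.sW_ext hF fun q => Fin.ext ?_
  have hq := allBelow_spec h q.val (rank_four ▸ q.isLt)
  rw [actW_eq DataF4.chk_arrays DataF4.chk_chain hF, actW_eq DataF4.chk_arrays DataF4.chk_chain hF,
    word_map hv, word_map hw, show (Facts.simpleFin hF q).val = DataF4.tab.smp q.val from
      simple_eq DataF4.chk_arrays q.isLt]
  exact Nat.eq_of_beq_eq_true hq

theorem rep_spec {k a : ℕ} (hk : k < 4) (ha : a < size k) :
    (0 < size k ∧ rep k 0 = []) ∧ (∀ i ∈ rep k a, i ≤ k) ∧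
    (∀ j ≤ k, (∃ b < size k, sameImg (j :: rep k a) (rep k b) = true) ∨
      ∃ i < k, sameImg (j :: rep k a) (rep k a ++ [i]) = true) ∧
    ∀ i < 4, ∀ j < 4, ((repMats.getD k []).getD a []).getD (4 * j + i) 0 =
      DataF4.tab.co (actW DataF4.tab (rep k a) (DataF4.tab.smp i)) j := by
  have h := allBelow_spec chk_reps k hk
  simp only [Bool.and_eq_true, blt_iff] at h
  obtain ⟨⟨h0, he⟩, h⟩ := h
  have h1 := allBelow_spec h a ha
  simp only [Bool.and_eq_true, List.all_eq_true, Nat.ble_eq] at h1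
  obtain ⟨⟨hlo, hnb⟩, hmat⟩ := h1
  refine ⟨⟨h0, List.isEmpty_iff.1 he⟩, hlo, fun j hj => ?_, fun i hi j hj => ?_⟩
  · have h2 := allBelow_spec hnb j (by omega)
    generalize ((nbs.getD k []).getD a []).getD j 0 = c at h2
    cases hc : Nat.beq (c % 2) 0 <;>
      simp only [hc, cond_true, cond_false, Bool.and_eq_true, blt_iff] at h2
    · exact Or.inr ⟨c / 2, h2⟩
    · exact Or.inl ⟨c / 2, h2⟩
  · exact of_decide_eq_true (allBelow_spec (allBelow_spec hmat i hi) j hj)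

theorem decompose {k : ℕ} (hk : k < 4) : ∀ l : List (Fin chevF4.rank), (∀ i ∈ l, i.val ≤ k) →
    ∃ a < size k, ∃ w : List (Fin chevF4.rank), (∀ i ∈ w, i.val < k) ∧
      sW D l = sW D (word (rep k a)) * sW D w := by
  have hz : 0 < size k := by interval_cases k <;> decide
  intro l
  induction l with
  | nil =>
    intro _
    exact ⟨0, hz, [], by simp, by rw [(rep_spec hk hz).1.2]; simp [word, sW_nil]⟩
  | cons j l ih =>
    intro hl
    obtain ⟨a, ha, w, hw, he⟩ := ih fun i hi => hl i (by simp [hi])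
    obtain ⟨-, hlo, hnb, -⟩ := rep_spec hk ha
    have hj : j.val ≤ k := hl j (by simp)
    have hlo4 : ∀ i ∈ rep k a, i < 4 := fun i hi => lt_of_le_of_lt (hlo i hi) hk
    have hcons : ∀ i ∈ j.val :: rep k a, i < 4 := by
      intro i hi
      rcases List.mem_cons.1 hi with rfl | hi
      · omega
      · exact hlo4 i hi
    rcases hnb j.val hj with ⟨b, hb, hs⟩ | ⟨i, hi, hs⟩
    · refine ⟨b, hb, w, hw, ?_⟩
      have h1 := sW_of_sameImg hcons (fun x hx => lt_of_le_of_lt ((rep_spec hk hb).2.1 x hx) hk) hs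
      rw [word_cons, sW_cons] at h1
      rw [sW_cons, he, ← mul_assoc, h1]
    · have hi4 : i < chevF4.rank := by rw [rank_four]; omega
      refine ⟨a, ha, ⟨i, hi4⟩ :: w, ?_, ?_⟩
      · intro x hx
        rcases List.mem_cons.1 hx with rfl | hx
        · exact hi
        · exact hw x hx
      · have h1 := sW_of_sameImg hcons (fun x hx => by
          rcases List.mem_append.1 hx with hx | hx
          · exact hlo4 x hx
          · rw [List.mem_singleton.1 hx]; omega) hs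
        rw [word_cons, word_append, sW_cons, sW_append] at h1
        rw [sW_cons, he, sW_cons, ← mul_assoc, h1,
          show word [i] = [⟨i, hi4⟩] by simp [word, hi4], sW_cons, sW_nil, mul_one, mul_assoc]

/-- Equal permutations have equal matrices. -/
theorem wM_congr {l m : List (Fin chevF4.rank)} (h : sW D l = sW D m) : wM D l = wM D m := by
  ext j i
  have h1 := congrArg (fun σ : Equiv.Perm (Fin chevF4.nroots) =>
    coV D DataF4.co (σ (Facts.simpleFin hF i)).val j) h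
  simp only [coV_sW hF, show (Facts.simpleFin hF i).val = chevF4.simple i.val from rfl, coV_simple hF] at h1
  simpa [Matrix.mulVec_single_one] using h1

theorem wM_rep {k a : ℕ} (hk : k < 4) (ha : a < size k) :
    (wM D (word (rep k a)) : Matrix (Fin 4) (Fin 4) ℤ) = (repMat k a).mat := by
  obtain ⟨-, hlo, -, hmat⟩ := rep_spec hk ha
  have key : ∀ i j : Fin chevF4.rank, wM D (word (rep k a)) j i =
      ((repMats.getD k []).getD a []).getD (4 * j.val + i.val) 0 := by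
    intro i j
    have h1 : coV D DataF4.co (sW D (word (rep k a)) (Facts.simpleFin hF i)).val j =
        wM D (word (rep k a)) j i := by
      rw [coV_sW hF, show (Facts.simpleFin hF i).val = chevF4.simple i.val from rfl, coV_simple hF]
      simp [Matrix.mulVec_single_one]
    rw [← h1, hmat i.val (rank_four ▸ i.isLt) j.val (rank_four ▸ j.isLt)]
    show DataF4.co _ j.val = _
    rw [actW_eq DataF4.chk_arrays DataF4.chk_chain hF,
      word_map fun x hx => lt_of_le_of_lt (hlo x hx) hk,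
      show (Facts.simpleFin hF i).val = DataF4.tab.smp i.val from simple_eq DataF4.chk_arrays i.isLt]
  ext j i
  rw [key i j]
  fin_cases j <;> fin_cases i <;> rfl

/-- Every element of the Weyl group has a good matrix. -/
theorem exists_good (l : List (Fin chevF4.rank)) :
    ∃ A : M4, (wM D l : Matrix (Fin 4) (Fin 4) ℤ) = A.mat ∧ A.good = true := by
  obtain ⟨a, ha, w3, hw3, e3⟩ := decompose (k := 3) (by norm_num) l fun i _ => by
    have := i.isLt; have := rank_four; omega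
  obtain ⟨b, hb, w2, hw2, e2⟩ := decompose (k := 2) (by norm_num) w3 fun i hi => Nat.lt_succ_iff.1 (hw3 i hi)
  obtain ⟨c, hc, w1, hw1, e1⟩ := decompose (k := 1) (by norm_num) w2 fun i hi => Nat.lt_succ_iff.1 (hw2 i hi)
  obtain ⟨e, he, w0, hw0, e0⟩ := decompose (k := 0) (by norm_num) w1 fun i hi => Nat.lt_succ_iff.1 (hw1 i hi)
  have hnil : w0 = [] := List.eq_nil_iff_forall_not_mem.2 fun i hi => Nat.not_lt_zero _ (hw0 i hi)
  refine ⟨(((repMat 3 a).mul (repMat 2 b)).mul (repMat 1 c)).mul (repMat 0 e), ?_, ?_⟩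
  · have h : sW D l = sW D (word (rep 3 a) ++ word (rep 2 b) ++ word (rep 1 c) ++ word (rep 0 e)) := by
      rw [e3, e2, e1, e0, hnil, sW_nil, mul_one, sW_append, sW_append, sW_append]
      group
    rw [wM_congr h, wM_append, wM_append, wM_append]
    simp only [M4.mat_mul, ← wM_rep (by norm_num : 3 < 4) ha, ← wM_rep (by norm_num : 2 < 4) hb,
      ← wM_rep (by norm_num : 1 < 4) hc, ← wM_rep (by norm_num : 0 < 4) he]
    rfl
  · exact allBelow_spec (allBelow_spec (allBelow_spec (allBelow_spec chk_good a ha) b hb) c hc) e he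

/-- The coefficient of the cyclotomic polynomial of order three, four or six. -/
def mid (d : ℕ) : ℤ := if d = 3 then 1 else if d = 4 then 0 else -1

theorem quad_root {q r d : ℕ} [Fact r.Prime] (hd : d = 3 ∨ d = 4 ∨ d = 6)
    (ho : orderOf (q : ZMod r) = d) : (q : ZMod r) ^ 2 + (mid d : ZMod r) * q + 1 = 0 := by
  have h0 : (q : ZMod r) ^ d = 1 := ho ▸ pow_orderOf_eq_one _
  have hne : ∀ i, i < d → 0 < i → (q : ZMod r) ^ i ≠ 1 := fun i hi hi0 =>
    ((orderOf_eq_iff (by omega)).1 ho).2 i hi hi0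
  rcases hd with rfl | rfl | rfl
  · rcases mul_eq_zero.1 (show ((q : ZMod r) - 1) * ((q : ZMod r) ^ 2 + q + 1) = 0 by
      linear_combination h0) with h | h
    · exact absurd (by rw [pow_one]; exact sub_eq_zero.1 h) (hne 1 (by norm_num) (by norm_num))
    · simpa [mid] using h
  · rcases mul_eq_zero.1 (show ((q : ZMod r) ^ 2 - 1) * ((q : ZMod r) ^ 2 + 1) = 0 by
      linear_combination h0) with h | h
    · exact absurd (sub_eq_zero.1 h) (hne 2 (by norm_num) (by norm_num))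
    · simpa [mid] using h
  · rcases mul_eq_zero.1 (show ((q : ZMod r) ^ 3 - 1) * (((q : ZMod r) + 1) *
      ((q : ZMod r) ^ 2 - q + 1)) = 0 by linear_combination h0) with h | h
    · exact absurd (sub_eq_zero.1 h) (hne 3 (by norm_num) (by norm_num))
    rcases mul_eq_zero.1 h with h | h
    · refine absurd ?_ (hne 2 (by norm_num) (by norm_num))
      linear_combination ((q : ZMod r) - 1) * h
    · simp [mid]
      linear_combination h

/-- A functional on which a matrix acts by a root of a quadratic polynomial modulo `r`. -/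
theorem eq_zero_of_small {M : Type*} [AddCommGroup M] {A : M4} {s : ℤ}
    (hA : (A.quad s).smallDet = true) {q r : ℕ} [Fact r.Prime] (hr : 3 < r)
    (hq : (q : ZMod r) ^ 2 + (s : ZMod r) * q + 1 = 0)
    (L : (Fin 4 → ℤ) →+ M) (hrL : ∀ v, (r : ℤ) • L v = 0)
    (hL : ∀ v, L (A.mat *ᵥ v) = (q : ℤ) • L v) : ∀ v, L v = 0 := by
  intro v
  have hdvd : (r : ℤ) ∣ (q : ℤ) ^ 2 + s * q + 1 := by
    rw [← ZMod.intCast_zmod_eq_zero_iff_dvd]
    push_cast
    exact hq
  have h1 : ∀ w, L ((A.quad s).mat *ᵥ w) = 0 := fun w => by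
    rw [M4.mat_quad, Matrix.add_mulVec, Matrix.add_mulVec, Matrix.smul_mulVec, Matrix.one_mulVec,
      ← Matrix.mulVec_mulVec, map_add, map_add, map_zsmul, hL, hL, ← mul_smul, ← mul_smul]
    rw [show ((q : ℤ) * q) • L w + (s * q) • L w + L w = ((q : ℤ) ^ 2 + s * q + 1) • L w by
      rw [add_smul, add_smul, one_smul, sq]]
    obtain ⟨t, ht⟩ := hdvd
    rw [ht, mul_comm, mul_smul, hrL, smul_zero]
  have h2 : (A.quad s).det • L v = 0 := by
    rw [← map_zsmul, ← M4.mat_det]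
    have := h1 ((A.quad s).mat.adjugate *ᵥ v)
    rwa [Matrix.mulVec_mulVec, Matrix.mul_adjugate, Matrix.smul_mulVec, Matrix.one_mulVec] at this
  refine eq_zero_of_coprime_zsmul Fact.out (hrL v) (fun hd => ?_) h2
  simp only [M4.smallDet, Bool.and_eq_true, Bool.not_eq_true'] at hA
  have hdd : r ∣ (A.quad s).det.natAbs := Int.natCast_dvd.1 hd
  have h6 : r ∣ 2176782336 :=
    hdd.trans (Nat.dvd_of_mod_eq_zero (Nat.eq_of_beq_eq_true hA.2))
  rw [show (2176782336 : ℕ) = (2 * 3) ^ 12 by norm_num] at h6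
  have hp : r.Prime := Fact.out
  rcases hp.dvd_mul.1 (hp.dvd_of_dvd_pow h6) with h | h <;>
    have := Nat.le_of_dvd (by norm_num) h <;> omega

/-- No Weyl element has eigenvalues of two of the orders three, four and six. -/
theorem no_two {M M' : Type*} [AddCommGroup M] [AddCommGroup M'] (l : List (Fin chevF4.rank))
    {q r s d e : ℕ} [Fact r.Prime] [Fact s.Prime] (hr : 3 < r) (hs : 3 < s)
    (hd : d = 3 ∨ d = 4 ∨ d = 6) (he : e = 3 ∨ e = 4 ∨ e = 6) (hde : d ≠ e)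
    (hod : orderOf (q : ZMod r) = d) (hoe : orderOf (q : ZMod s) = e)
    (L : (Fin chevF4.rank → ℤ) →+ M) (L' : (Fin chevF4.rank → ℤ) →+ M')
    (hrL : ∀ v, (r : ℤ) • L v = 0) (hsL : ∀ v, (s : ℤ) • L' v = 0)
    (hL : ∀ v, L (wM D l *ᵥ v) = (q : ℤ) • L v) (hL' : ∀ v, L' (wM D l *ᵥ v) = (q : ℤ) • L' v) :
    (∀ v, L v = 0) ∨ ∀ v, L' v = 0 := by
  obtain ⟨A, hA, hg⟩ := exists_good l
  rw [hA] at hL hL'
  have k1 : (A.quad (mid d)).smallDet = true → ∀ v, L v = 0 := fun h =>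
    eq_zero_of_small h hr (quad_root hd hod) L hrL hL
  have k2 : (A.quad (mid e)).smallDet = true → ∀ v, L' v = 0 := fun h =>
    eq_zero_of_small h hs (quad_root he hoe) L' hsL hL'
  simp only [M4.good, Bool.or_eq_true, Bool.and_eq_true] at hg
  rcases hd with rfl | rfl | rfl <;> rcases he with rfl | rfl | rfl <;>
    first
    | exact absurd rfl hde
    | (simp only [mid] at k1 k2; norm_num at k1 k2
       rcases hg with (⟨a, b⟩ | ⟨a, b⟩) | ⟨a, b⟩ <;>
         first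
         | exact Or.inl (k1 a)
         | exact Or.inl (k1 b)
         | exact Or.inr (k2 a)
         | exact Or.inr (k2 b))

end CfsgLib.Known.F4Graph
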