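import Cfsg.Agent.Lib.Known.ChevSinger.F4

/-!
# Descent of fixed elements

An element of the group over an extension field fixed by the Frobenius map is defined over the
smaller field.
-/

set_option autoImplicit false

namespace CfsgLib.Known.ChevSinger

open Cfsg.Lie CfsgLib.Chev Matrix

universe u v

variable {D : ChevalleyDatum} {co : ℕ → ℕ → ℤ}

/-- Fixed elements come from the group over the fixed field. -/
theorem exists_preimage (hF : Facts D co) {Ci : Matrix (Fin D.rank) (Fin D.rank) ℤ}
    (hCi : cartanMat D * Ci = 1) {F : Type u} [Field F] {K : Type v} [Field K] (hC : CommF.{v} D)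
    (ι : F →+* K) (σ : K →+* K) (hfix : ∀ t : K, σ t = t → ∃ u, ι u = t)
    {g : GL D.Idx K} (hg : g ∈ D.group K) (hgfix : extG D σ g = g) :
    ∃ x ∈ D.group F, extG D ι x = g := by
  obtain ⟨e, he, h', hh', hh'fix, hge⟩ := FixedPoints.fixed_decomp hF hC σ hg hgfix
  have heF : e ∈ (D.group F).map (extG D ι) := by
    refine (Subgroup.closure_le _).2 ?_ he
    rintro x ⟨s, t, hs, ht, rfl⟩
    obtain ⟨u, rfl⟩ := hfix t ht
    refine ⟨xU D s u, ?_, extG_xU ι hF hs u⟩
    rw [hF.group_eq]
    exact xU_mem_rootClosure hs trivial u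
  have hh'F : h' ∈ (D.group F).map (extG D ι) := by
    obtain ⟨c1, rfl⟩ := hF.mem_diagonal_iff.1 hh'
    change extG D σ (hT D c1) = hT D c1 at hh'fix
    rw [extG_hT] at hh'fix
    have hex : ∀ s < D.nroots, ∃ u : Fˣ, Units.map ι.toMonoidHom u = chiT D c1 s := by
      intro s hs
      have h1 := chiT_eq_of_hT hh'fix hs
      rw [chiT_map] at h1
      obtain ⟨u, hu⟩ := hfix (chiT D c1 s : K) (congrArg Units.val h1)
      have hu0 : u ≠ 0 := fun h0 => (chiT D c1 s).ne_zero (by rw [← hu, h0, map_zero])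
      exact ⟨Units.mk0 u hu0, Units.ext hu⟩
    choose u hu using hex
    let E : Fin D.rank → Additive Fˣ := fun i =>
      Additive.ofMul (u (D.simple i.val) (hF.simple_lt' i.isLt))
    let LF : (Fin D.rank → ℤ) →+ Additive Fˣ :=
      { toFun := fun v => ∑ i, v i • E i
        map_zero' := by simp
        map_add' := fun v w => by simp only [Pi.add_apply, add_zsmul, Finset.sum_add_distrib] }
    obtain ⟨cF, hcF⟩ := exists_torus hCi LF
    refine ⟨hT D cF, hF.diagonal_le_group (hF.mem_diagonal_iff.2 ⟨cF, rfl⟩), ?_⟩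
    rw [extG_hT]
    refine hT_ext_hom hF (AddMonoidHom.ext fun w => ?_)
    show ∑ i, w i • Additive.ofMul (chiT D _ (D.simple i.val)) =
      ∑ i, w i • Additive.ofMul (chiT D c1 (D.simple i.val))
    refine Finset.sum_congr rfl fun i _ => ?_
    have h1 := DFunLike.congr_fun hcF (coV D co (D.simple i.val))
    rw [torHom_coV hF cF (hF.simple_lt' i.isLt)] at h1
    have h2 : LF (coV D co (D.simple i.val)) = E i := by
      show ∑ j, coV D co (D.simple i.val) j • E j = E i
      rw [coV_simple hF, Finset.sum_eq_single i (fun j _ hj => by simp [hj]) (by simp)]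
      simp
    rw [h2] at h1
    rw [chiT_map, Additive.ofMul.injective h1, hu]
  obtain ⟨x, hxG, hx⟩ : g ∈ (D.group F).map (extG D ι) := hge ▸ Subgroup.mul_mem _ heF hh'F
  exact ⟨x, hxG, hx⟩

end CfsgLib.Known.ChevSinger
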