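import Cfsg.Agent.Lib.Known.F4Graph.Twist
import Cfsg.Agent.Lib.Known.F4Graph.Descent

/-!
# Elements centralising the long root `SL₂` of `F₄(2ⁿ)`
-/

set_option autoImplicit false
set_option maxRecDepth 20000

namespace CfsgLib.Known.F4Graph

open Cfsg.Lie CfsgLib.Chev CfsgLib.Known.ChevSinger
open scoped MatrixGroups

universe u v

local notation "D" => chevF4
local notation "hF" => DataF4.facts

section Rank

variable {K : Type v} [Field K]

/-- A lower unitriangular matrix. -/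
def loM (t : K) : SL(2, K) := ⟨!![1, 0; t, 1], by simp [Matrix.det_fin_two]⟩

theorem loM_eq (t : K) :
    loM t = Matrix.SpecialLinearGroup.transvection (show (1 : Fin 2) ≠ 0 by decide) t := by
  refine Subtype.ext ?_
  show !![(1 : K), 0; t, 1] = Matrix.transvection 1 0 t
  ext i j; fin_cases i <;> fin_cases j <;> simp [Matrix.transvection]

theorem upM_eq (t : K) :
    upM t = Matrix.SpecialLinearGroup.transvection (show (0 : Fin 2) ≠ 1 by decide) t := by
  refine Subtype.ext ?_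
  show !![(1 : K), t; 0, 1] = Matrix.transvection 0 1 t
  ext i j; fin_cases i <;> fin_cases j <;> simp [Matrix.transvection]

theorem gen_two : Subgroup.closure {g : SL(2, K) | ∃ t, g = upM t ∨ g = loM t} = ⊤ :=
  CfsgLib.Classical.SL_le_of_transvections _ fun i j hij c => Subgroup.subset_closure ⟨c, by
    fin_cases i <;> fin_cases j <;> first | exact absurd rfl hij | skip
    · exact Or.inl (upM_eq c).symm
    · exact Or.inr (loM_eq c).symm⟩

theorem hom_two_ext {G : Type*} [Group G] {f g : SL(2, K) →* G}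
    (h : ∀ t, f (upM t) = g (upM t) ∧ f (loM t) = g (loM t)) : f = g :=
  MonoidHom.eq_of_eqOn_dense gen_two (by
    rintro _ ⟨t, rfl | rfl⟩
    · exact (h t).1
    · exact (h t).2)

/-- The homomorphism of a root and its negative. -/
structure IsRootHom (r r' : ℕ) (φ : SL(2, K) →* GL chevF4.Idx K) : Prop where
  up : ∀ t, φ (upM t) = xU D r t
  lo : ∀ t, φ (loM t) = xU D r' t

theorem exists_rootHom {r r' : ℕ} (hr : r < chevF4.nroots) (hn : chevF4.neg r = r') :
    ∃ φ : SL(2, K) →* GL chevF4.Idx K, IsRootHom r r' φ := by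
  obtain ⟨φ, -, hφ⟩ := Facts.exists_sl2Hom hF (F := K) hr
  refine ⟨φ, fun t => (Facts.eq_xU_iff hF hr).1 ((hφ _ t).1 rfl), fun t => ?_⟩
  rw [← hn]
  exact (Facts.eq_xU_iff hF (Facts.neg_lt hF hr)).1 ((hφ _ t).2 rfl)

theorem IsRootHom.mem {r r' : ℕ} {φ : SL(2, K) →* GL chevF4.Idx K} (h : IsRootHom r r' φ)
    {H : Subgroup (GL chevF4.Idx K)} (h1 : ∀ t, xU D r t ∈ H) (h2 : ∀ t, xU D r' t ∈ H)
    (x : SL(2, K)) : φ x ∈ H := by
  have : (⊤ : Subgroup SL(2, K)) ≤ H.comap φ := by
    rw [← gen_two, Subgroup.closure_le]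
    rintro _ ⟨t, rfl | rfl⟩
    · rw [SetLike.mem_coe, Subgroup.mem_comap, h.up]; exact h1 t
    · rw [SetLike.mem_coe, Subgroup.mem_comap, h.lo]; exact h2 t
  exact this (Subgroup.mem_top x)

theorem IsRootHom.commute {r r' s s' : ℕ} {φ ψ : SL(2, K) →* GL chevF4.Idx K}
    (h : IsRootHom r r' φ) (h' : IsRootHom s s' ψ)
    (hc : ∀ a ∈ [r, r'], ∀ b ∈ [s, s'], ∀ t u : K, Commute (xU D a t) (xU D b u))
    (x y : SL(2, K)) : Commute (φ x) (ψ y) := by
  have h1 : ∀ a ∈ [r, r'], ∀ t, Commute (xU D a t) (ψ y) := fun a ha t =>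
    (Subgroup.mem_centralizer_singleton_iff.1 (h'.mem
      (H := Subgroup.centralizer {xU D a t})
      (fun u => Subgroup.mem_centralizer_singleton_iff.2 (hc a ha s (by simp) t u).symm.eq)
      (fun u => Subgroup.mem_centralizer_singleton_iff.2 (hc a ha s' (by simp) t u).symm.eq) y) :
        Commute (ψ y) (xU D a t)).symm
  exact (Subgroup.mem_centralizer_singleton_iff.1 (h.mem (H := Subgroup.centralizer {ψ y})
    (fun t => Subgroup.mem_centralizer_singleton_iff.2 (h1 r (by simp) t).eq)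
    (fun t => Subgroup.mem_centralizer_singleton_iff.2 (h1 r' (by simp) t).eq) x) : Commute _ _)

theorem IsRootHom.frob {r r' : ℕ} {φ : SL(2, K) →* GL chevF4.Idx K} (h : IsRootHom r r' φ)
    (hr : r < chevF4.nroots) (hr' : r' < chevF4.nroots) (σ : K →+* K) (x : SL(2, K)) :
    extG D σ (φ x) = φ (Matrix.SpecialLinearGroup.map σ x) := by
  refine DFunLike.congr_fun (hom_two_ext (f := (extG D σ).comp φ)
    (g := φ.comp (Matrix.SpecialLinearGroup.map σ)) fun t => ⟨?_, ?_⟩) x
  · have e : Matrix.SpecialLinearGroup.map σ (upM t) = upM (σ t) := by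
      refine Subtype.ext ?_
      show (!![(1 : K), t; 0, 1]).map σ = !![1, σ t; 0, 1]
      ext i j; fin_cases i <;> fin_cases j <;> simp
    show extG D σ (φ _) = φ (Matrix.SpecialLinearGroup.map σ _)
    rw [e, h.up, h.up, extG_xU σ hF hr]
  · have e : Matrix.SpecialLinearGroup.map σ (loM t) = loM (σ t) := by
      refine Subtype.ext ?_
      show (!![(1 : K), 0; t, 1]).map σ = !![1, 0; σ t, 1]
      ext i j; fin_cases i <;> fin_cases j <;> simp
    show extG D σ (φ _) = φ (Matrix.SpecialLinearGroup.map σ _)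
    rw [e, h.lo, h.lo, extG_xU σ hF hr']

theorem IsRootHom.conj {r r' s s' : ℕ} {φ ψ : SL(2, K) →* GL chevF4.Idx K}
    (h : IsRootHom r r' φ) (h' : IsRootHom s s' ψ) {n : GL chevF4.Idx K}
    (h1 : ∀ t, n * xU D r t * n⁻¹ = xU D s t) (h2 : ∀ t, n * xU D r' t * n⁻¹ = xU D s' t)
    (x : SL(2, K)) : n * φ x * n⁻¹ = ψ x :=
  DFunLike.congr_fun (hom_two_ext (f := (MulAut.conj n).toMonoidHom.comp φ) (g := ψ) fun t =>
    ⟨by show n * φ (upM t) * n⁻¹ = _; rw [h.up, h'.up, h1],
      by show n * φ (loM t) * n⁻¹ = _; rw [h.lo, h'.lo, h2]⟩) x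

/-- A fundamental `n` permutes root elements in characteristic two. -/
theorem nS_conj [CharP K 2] {i : ℕ} (hi : i < chevF4.rank) {r : ℕ} (hr : r < chevF4.nroots) (t : K) :
    nU D (chevF4.simple i) (1 : K) * xU D r t * (nU D (chevF4.simple i) 1)⁻¹ =
      xU D (chevF4.reflectRoot i r) t := by
  obtain ⟨η, h1, -, h3⟩ := Facts.exists_eta (F := K) hF hi
  rw [h3 r hr, mul_inv_cancel_right]
  rcases h1 r hr with e | e <;> rw [e] <;> simp [CharTwo.neg_eq]

theorem nonCommute [CharP K 2] {r : ℕ} (hr : r < chevF4.nroots)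
    (h : Commute (xU D r (1 : K)) (xU D (chevF4.neg r) 1)) : False := by
  have hneg : (-1 : K) = 1 := CharTwo.neg_eq 1
  have hn : nU D r (1 : K) = xU D (chevF4.neg r) 1 := by
    rw [nU, inv_one, hneg, h.eq, mul_assoc, Facts.xU_add hF hr, CharTwo.add_self_eq_zero,
      Facts.xU_zero hF hr, mul_one]
  have h1 := Facts.nU_conj_self hF hr (1 : K)
  rw [hn, hneg, h.symm.eq, mul_inv_cancel_right] at h1
  exact Facts.neg_ne hF hr (Facts.xU_root_unique hF hr (Facts.neg_lt hF hr) one_ne_zero h1).symm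

theorem center_sl_two [CharP K 2] : Subgroup.center SL(2, K) = ⊥ := by
  refine eq_bot_iff.2 fun g hg => Subgroup.mem_bot.2 (Subtype.ext ?_)
  have h1 := congrArg Subtype.val (Subgroup.mem_center_iff.1 hg (upM 1))
  have h2 := congrArg Subtype.val (Subgroup.mem_center_iff.1 hg (loM 1))
  replace h1 : !![(1 : K), 1; 0, 1] * g.1 = g.1 * !![(1 : K), 1; 0, 1] := h1
  replace h2 : !![(1 : K), 0; 1, 1] * g.1 = g.1 * !![(1 : K), 0; 1, 1] := h2
  have a := congrFun (congrFun h1 0) 0
  have b := congrFun (congrFun h1 0) 1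
  have c := congrFun (congrFun h2 0) 0
  simp [Matrix.mul_apply, Fin.sum_univ_two] at a b c
  have hd := sl2_det g
  have h10 : g.1 1 0 = 0 := a
  have h01 : g.1 0 1 = 0 := c
  have h11 : g.1 1 1 = g.1 0 0 := by linear_combination b
  rw [h10, h01, h11, mul_zero, sub_zero] at hd
  have h00 : g.1 0 0 = 1 := by
    have : (g.1 0 0 - 1) * (g.1 0 0 - 1) = 0 := by
      have h2' : (2 : K) = 0 := CharTwo.two_eq_zero
      linear_combination hd + (1 - g.1 0 0) * h2'
    exact sub_eq_zero.1 (mul_self_eq_zero.1 this)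
  show g.1 = 1
  ext i j
  fin_cases i <;> fin_cases j <;> simp [h00, h01, h10, h11]

/-- A homomorphism of `SL₂` which is not trivial is injective. -/
theorem injective_of_ne [CharP K 2] (hK : 4 ≤ Nat.card K) {G : Type*} [Group G]
    (f : SL(2, K) →* G) (h : f (upM 1) ≠ 1) : Function.Injective f := by
  haveI := Matrix.ProjectiveSpecialLinearGroup.rank_two_simple hK
  rw [← MonoidHom.ker_eq_bot_iff]
  set π := QuotientGroup.mk' (Subgroup.center SL(2, K))
  rcases IsSimpleGroup.eq_bot_or_eq_top_of_normal _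
    ((MonoidHom.normal_ker f).map π (QuotientGroup.mk'_surjective _)) with e | e
  · rw [Subgroup.map_eq_bot_iff, QuotientGroup.ker_mk', center_sl_two] at e
    exact le_bot_iff.1 e
  · exfalso
    obtain ⟨x, hx, hxe⟩ : π (upM 1) ∈ f.ker.map π := e ▸ Subgroup.mem_top _
    have h1 : x⁻¹ * upM 1 ∈ Subgroup.center SL(2, K) := (QuotientGroup.eq).1 hxe
    rw [center_sl_two, Subgroup.mem_bot, inv_mul_eq_one] at h1
    exact h (h1 ▸ hx)

end Rank

section Main

variable {F : Type u} [Field F] [Finite F] [CharP F 2]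

/-- A rational element from an element fixed by a twisted Frobenius map. -/
theorem descend {K : Type v} [Field K] (ι : F →+* K) (σ : K →+* K)
    (hσι : σ.comp ι = ι) (hfix : ∀ t : K, σ t = t → ∃ u, ι u = t)
    {P n g : GL chevF4.Idx K} (hP : P ∈ subC K) (hn : P⁻¹ * extG D σ P = n) (hg : g ∈ subC K)
    (hng : n * extG D σ g * n⁻¹ = g) :
    ∃ x ∈ chevF4.group F, orderOf x = orderOf g ∧
      ∀ s ∈ [0, 47], ∀ u : F, Commute x (xU D s u) := by
  have hC : CommF.{v} chevF4 := good_F4.comm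
  have hy : P * g * P⁻¹ ∈ subC K := Subgroup.mul_mem _ (Subgroup.mul_mem _ hP hg) (Subgroup.inv_mem _ hP)
  have hσP : extG D σ P = P * n := by rw [← hn, mul_inv_cancel_left]
  have hfixy : extG D σ (P * g * P⁻¹) = P * g * P⁻¹ := by
    rw [map_mul, map_mul, map_inv, hσP]
    conv_rhs => rw [← hng]
    group
  obtain ⟨x, hx, hxy⟩ := exists_preimage hF ChevSinger.F4.data.inv hC ι σ hfix (sub_le_group hy) hfixy
  refine ⟨x, hx, ?_, fun s hs u => ?_⟩
  · rw [← orderOf_injective (extG D ι) (extG_injective ι) x, hxy]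
    exact orderOf_injective (MulAut.conj P).toMonoidHom (MulAut.conj P).injective g
  · have hs' : s < chevF4.nroots := by
      rw [simples.2.2.2.1]
      rcases List.mem_cons.1 hs with rfl | h
      · norm_num
      · rw [List.mem_singleton.1 h]; norm_num
    refine (?_ : Commute (extG D ι x) (extG D ι (xU D s u))).of_map (extG_injective ι)
    rw [hxy, extG_xU ι hF hs']
    exact sub_commute hC hy hs _

omit [CharP F 2] in
theorem exists_frob (d : ℕ) [NeZero d] :
    ∃ (K : Type) (_ : Field K) (_ : Finite K) (ι : F →+* K) (σ : K →+* K),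
      Nat.card K = Nat.card F ^ d ∧ (∀ x, σ x = x ^ Nat.card F) ∧ σ.comp ι = ι ∧
        ∀ t, σ t = t → ∃ u, ι u = t := by
  haveI := Fintype.ofFinite F
  obtain ⟨p, hp⟩ := CharP.exists F
  obtain ⟨f, hpp, hf⟩ := FiniteField.card F p
  haveI : Fact p.Prime := ⟨hpp⟩
  let K := FiniteField.Extension F p d
  let ι : F →+* K := algebraMap F K
  haveI : CharP K p := charP_of_injective_ringHom ι.injective p
  let σ : K →+* K := iterateFrobenius K p f
  have hσ : ∀ x, σ x = x ^ Nat.card F := fun x => by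
    rw [Nat.card_eq_fintype_card, hf]; exact iterateFrobenius_def p f x
  refine ⟨K, inferInstance, inferInstance, ι, σ, FiniteField.natCard_extension .., hσ,
    RingHom.ext fun x => ?_, fun t ht => G2Singer.exists_fixed_preimage ι (by rw [← hσ, ht])⟩
  rw [RingHom.comp_apply, hσ, ← map_pow, Nat.card_eq_fintype_card, FiniteField.pow_card]

/-- Elements of orders `q² - 1` and `q² + 1`. -/
theorem exists_two : ∀ N ∈ [Nat.card F ^ 2 - 1, Nat.card F ^ 2 + 1],
    ∃ x ∈ chevF4.group F, orderOf x = N ∧ ∀ s ∈ [0, 47], ∀ u : F, Commute x (xU D s u) := by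
  intro N hN
  obtain ⟨K, _, _, ι, σ, hK, hσ, hσι, hfix⟩ := exists_frob (F := F) 2
  haveI : CharP K 2 := charP_of_injective_ringHom ι.injective 2
  haveI := Fintype.ofFinite K
  have hC : CommF.{0} chevF4 := good_F4.comm
  set q := Nat.card F with hq
  have hq2 : 2 ≤ q := Finite.one_lt_card
  have hσ2 : ∀ x, σ (σ x) = x := fun x => by
    rw [hσ, hσ, ← pow_mul, ← sq, ← hK, Nat.card_eq_fintype_card, FiniteField.pow_card]
  -- an element moved to its translate by one
  obtain ⟨a, ha⟩ : ∃ a : K, σ a = a + 1 := by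
    obtain ⟨b, hb⟩ : ∃ b : K, σ b ≠ b := by
      by_contra hcon
      push Not at hcon
      have : Nat.card K ≤ q :=
        Nat.card_le_card_of_surjective ι fun t => hfix t (hcon t)
      rw [hK] at this
      nlinarith
    obtain ⟨w, hw⟩ := hfix (σ b + b) (by rw [map_add, hσ2, add_comm])
    have hw0 : w ≠ 0 := fun h => hb (by
      rw [h, map_zero] at hw
      exact CharTwo.add_eq_zero.1 hw.symm)
    refine ⟨b * (ι w)⁻¹, ?_⟩
    have hwι : σ (ι w) = ι w := RingHom.congr_fun hσι w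
    rw [map_mul, map_inv₀, hwι]
    have : ι w ≠ 0 := fun h => hw0 (ι.injective (by rw [h, map_zero]))
    field_simp
    rw [hw, ← add_assoc, add_comm b (σ b), add_assoc, CharTwo.add_self_eq_zero, add_zero]
  obtain ⟨P, hP, hPn⟩ := lang_two σ ha
  have h48 : ∀ r ∈ [33, 14, 27, 20, 28, 19, 25, 22, 41, 6, 30, 17], r < chevF4.nroots :=
    fun r hr => simples.2.2.2.1 ▸ (sub_roots r hr).1
  obtain ⟨φ, hφ⟩ := exists_rootHom (K := K) (h48 27 (by simp)) negs.1
  obtain ⟨ψ, hψ⟩ := exists_rootHom (K := K) (h48 28 (by simp)) negs.2.1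
  set n := nU D 25 (1 : K) with hn
  have hnc : ∀ r ∈ [27, 20, 28, 19], ∀ t, n * xU D r t * n⁻¹ = xU D (chevF4.reflectRoot 2 r) t :=
    fun r hr t => by
      rw [hn, ← simples.2.2.1]
      exact nS_conj (by rw [simples.2.2.2.2]; norm_num) (h48 r (by
        simp only [List.mem_cons, List.not_mem_nil, or_false] at hr ⊢; omega)) t
  have h12 : ∀ x, n * φ x * n⁻¹ = ψ x := hφ.conj hψ
    (fun t => by rw [hnc 27 (by simp), refl_two.1]) (fun t => by rw [hnc 20 (by simp), refl_two.2.2.1])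
  have h21 : ∀ x, n * ψ x * n⁻¹ = φ x := hψ.conj hφ
    (fun t => by rw [hnc 28 (by simp), refl_two.2.1]) (fun t => by rw [hnc 19 (by simp), refl_two.2.2.2])
  have hcm : ∀ x y, Commute (φ x) (ψ y) := hφ.commute hψ fun a ha b hb t u =>
    comm_of_even hC (h48 a (by simp only [List.mem_cons, List.not_mem_nil, or_false] at ha ⊢; omega))
      (h48 b (by simp only [List.mem_cons, List.not_mem_nil, or_false] at hb ⊢; omega))
      (sub_two a ha b hb) t u
  let τ := Matrix.SpecialLinearGroup.map (n := Fin 2) σ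
  have hττ : ∀ x, τ (τ x) = x := fun x => by
    refine Subtype.ext ?_
    show (x.1.map σ).map σ = x.1
    ext i j; simp [hσ2]
  let f : SL(2, K) →* GL chevF4.Idx K :=
    { toFun := fun x => φ x * ψ (τ x)
      map_one' := by simp
      map_mul' := fun x y => by
        rw [map_mul, map_mul, map_mul, (hcm y (τ x)).symm.mul_mul_mul_comm] }
  have hf : Function.Injective f := by
    refine injective_of_ne (by rw [hK]; nlinarith) f fun h1 => ?_
    change φ (upM 1) * ψ (τ (upM 1)) = 1 at h1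
    refine nonCommute (K := K) (h48 27 (by simp)) ?_
    rw [negs.1, ← hφ.up, ← hφ.lo, eq_inv_of_mul_eq_one_left h1]
    exact ((hcm _ _).symm).inv_left
  obtain ⟨x, hx⟩ : ∃ x : SL(2, K), orderOf x = N := by
    obtain ⟨⟨s, hs⟩, ⟨t, ht⟩⟩ := CfsgLib.KnownSimple.exists_sl2_orderOf (F := K)
    rw [← Nat.card_eq_fintype_card, hK] at hs ht
    simp only [List.mem_cons, List.not_mem_nil, or_false] at hN
    rcases hN with rfl | rfl
    exacts [⟨s, hs⟩, ⟨t, ht⟩]
  have hmem : f x ∈ subC K := Subgroup.mul_mem _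
    (hφ.mem (fun t => xU_mem_sub (by simp) t) (fun t => xU_mem_sub (by simp) t) _)
    (hψ.mem (fun t => xU_mem_sub (by simp) t) (fun t => xU_mem_sub (by simp) t) _)
  obtain ⟨y, hy, hyo, hyc⟩ := descend ι σ hσι hfix hP hPn hmem (by
    show n * extG D σ (φ x * ψ (τ x)) * n⁻¹ = φ x * ψ (τ x)
    rw [map_mul, hφ.frob (h48 27 (by simp)) (h48 20 (by simp)),
      hψ.frob (h48 28 (by simp)) (h48 19 (by simp))]
    change n * (φ (τ x) * ψ (τ (τ x))) * n⁻¹ = _
    rw [hττ, ← conj_mul, h12, h21, (hcm _ _).eq])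
  exact ⟨y, hy, by rw [hyo, orderOf_injective f hf, hx], hyc⟩

/-- Elements of orders `q³ - 1` and `q³ + 1`. -/
theorem exists_three : ∀ N ∈ [Nat.card F ^ 3 - 1, Nat.card F ^ 3 + 1],
    ∃ x ∈ chevF4.group F, orderOf x = N ∧ ∀ s ∈ [0, 47], ∀ u : F, Commute x (xU D s u) := by
  intro N hN
  obtain ⟨K, _, _, ι, σ, hK, hσ, hσι, hfix⟩ := exists_frob (F := F) 3
  haveI : CharP K 2 := charP_of_injective_ringHom ι.injective 2
  haveI := Fintype.ofFinite K
  have hC : CommF.{0} chevF4 := good_F4.comm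
  set q := Nat.card F with hq
  have hq2 : 2 ≤ q := Finite.one_lt_card
  have hσ3 : ∀ x, σ (σ (σ x)) = x := fun x => by
    rw [hσ, hσ, hσ, ← pow_mul, ← pow_mul, show q * (q * q) = q ^ 3 by ring, ← hK,
      Nat.card_eq_fintype_card, FiniteField.pow_card]
  obtain ⟨b, hb⟩ : ∃ b : K, σ b ≠ b := by
    by_contra hcon
    push Not at hcon
    have : Nat.card K ≤ q :=
      Nat.card_le_card_of_surjective ι fun t => hfix t (hcon t)
    rw [hK] at this
    nlinarith [Nat.pow_le_pow_right (by omega : 1 ≤ q) (show 2 ≤ 3 by norm_num)]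
  obtain ⟨P, hP, hPn⟩ := lang_three hC σ hσ3 hb
  have h48 : ∀ r ∈ [33, 14, 27, 20, 28, 19, 25, 22, 41, 6, 30, 17], r < chevF4.nroots :=
    fun r hr => simples.2.2.2.1 ▸ (sub_roots r hr).1
  obtain ⟨φ, hφ⟩ := exists_rootHom (K := K) (h48 25 (by simp)) negs.2.2.1
  obtain ⟨ψ, hψ⟩ := exists_rootHom (K := K) (h48 41 (by simp)) negs.2.2.2.1
  obtain ⟨χ, hχ⟩ := exists_rootHom (K := K) (h48 30 (by simp)) negs.2.2.2.2.1
  set n := nU D 33 (1 : K) * nU D 27 (1 : K) with hn
  have hnc : ∀ p ∈ [(25, 41), (41, 30), (30, 25), (22, 6), (6, 17), (17, 22)],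
      ∀ t, n * xU D p.1 t * n⁻¹ = xU D p.2 t := fun p hp t => by
    have hp1 : p.1 < chevF4.nroots := h48 p.1 (by
      simp only [List.mem_cons, List.not_mem_nil, or_false] at hp ⊢
      rcases hp with rfl | rfl | rfl | rfl | rfl | rfl <;> omega)
    have h0 : 0 < chevF4.rank := by rw [simples.2.2.2.2]; norm_num
    have h1 : 1 < chevF4.rank := by rw [simples.2.2.2.2]; norm_num
    have e : n * xU D p.1 t * n⁻¹ = nU D 33 (1 : K) *
        (nU D 27 (1 : K) * xU D p.1 t * (nU D 27 1)⁻¹) * (nU D 33 1)⁻¹ := by rw [hn]; group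
    rw [e]
    conv_lhs => rw [← simples.2.1, nS_conj h1 hp1, ← simples.1,
      nS_conj h0 (Facts.refl_lt hF 1 h1 p.1 hp1)]
    rw [refl_three p hp]
  have h12 : ∀ x, n * φ x * n⁻¹ = ψ x := hφ.conj hψ
    (hnc (25, 41) (by simp)) (hnc (22, 6) (by simp))
  have h23 : ∀ x, n * ψ x * n⁻¹ = χ x := hψ.conj hχ
    (hnc (41, 30) (by simp)) (hnc (6, 17) (by simp))
  have h31 : ∀ x, n * χ x * n⁻¹ = φ x := hχ.conj hφ
    (hnc (30, 25) (by simp)) (hnc (17, 22) (by simp))
  have hcm1 : ∀ x y, Commute (φ x) (ψ y) := hφ.commute hψ fun a ha b hb t u =>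
    CT.SB.commute_xU hF hC
      (h48 a (by simp only [List.mem_cons, List.not_mem_nil, or_false] at ha ⊢; omega))
      (h48 b (by simp only [List.mem_cons, List.not_mem_nil, or_false] at hb ⊢; omega))
      (Or.inr (sub_three a ha b (by
        simp only [List.mem_cons, List.not_mem_nil, or_false] at hb ⊢; omega))) t u
  have hcm2 : ∀ x y, Commute (φ x) (χ y) := hφ.commute hχ fun a ha b hb t u =>
    CT.SB.commute_xU hF hC
      (h48 a (by simp only [List.mem_cons, List.not_mem_nil, or_false] at ha ⊢; omega))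
      (h48 b (by simp only [List.mem_cons, List.not_mem_nil, or_false] at hb ⊢; omega))
      (Or.inr (sub_three a ha b (by
        simp only [List.mem_cons, List.not_mem_nil, or_false] at hb ⊢; omega))) t u
  have hcm3 : ∀ x y, Commute (ψ x) (χ y) := hψ.commute hχ fun a ha b hb t u =>
    CT.SB.commute_xU hF hC
      (h48 a (by simp only [List.mem_cons, List.not_mem_nil, or_false] at ha ⊢; omega))
      (h48 b (by simp only [List.mem_cons, List.not_mem_nil, or_false] at hb ⊢; omega))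
      (Or.inr (sub_three' a ha b hb)) t u
  let τ := Matrix.SpecialLinearGroup.map (n := Fin 2) σ
  have hτ3 : ∀ x, τ (τ (τ x)) = x := fun x => by
    refine Subtype.ext ?_
    show ((x.1.map σ).map σ).map σ = x.1
    ext i j; simp [hσ3]
  let f : SL(2, K) →* GL chevF4.Idx K :=
    { toFun := fun x => φ x * ψ (τ x) * χ (τ (τ x))
      map_one' := by simp
      map_mul' := fun x y => by
        rw [map_mul, map_mul, map_mul, map_mul, map_mul, (hcm1 y (τ x)).mul_mul_mul_comm]
        exact ((hcm2 y _).mul_left (hcm3 (τ y) _)).mul_mul_mul_comm _ _ }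
  have hf : Function.Injective f := by
    refine injective_of_ne (by rw [hK]; nlinarith [Nat.pow_le_pow_left hq2 3]) f fun h1 => ?_
    change φ (upM 1) * ψ (τ (upM 1)) * χ (τ (τ (upM 1))) = 1 at h1
    rw [mul_assoc] at h1
    refine nonCommute (K := K) (h48 25 (by simp)) ?_
    rw [negs.2.2.1, ← hφ.up, ← hφ.lo, eq_inv_of_mul_eq_one_left h1]
    exact (((hcm1 _ _).symm).mul_left ((hcm2 _ _).symm)).inv_left
  obtain ⟨x, hx⟩ : ∃ x : SL(2, K), orderOf x = N := by
    obtain ⟨⟨s, hs⟩, ⟨t, ht⟩⟩ := CfsgLib.KnownSimple.exists_sl2_orderOf (F := K)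
    rw [← Nat.card_eq_fintype_card, hK] at hs ht
    simp only [List.mem_cons, List.not_mem_nil, or_false] at hN
    rcases hN with rfl | rfl
    exacts [⟨s, hs⟩, ⟨t, ht⟩]
  have hmem : f x ∈ subC K := Subgroup.mul_mem _ (Subgroup.mul_mem _
    (hφ.mem (fun t => xU_mem_sub (by simp) t) (fun t => xU_mem_sub (by simp) t) _)
    (hψ.mem (fun t => xU_mem_sub (by simp) t) (fun t => xU_mem_sub (by simp) t) _))
    (hχ.mem (fun t => xU_mem_sub (by simp) t) (fun t => xU_mem_sub (by simp) t) _)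
  obtain ⟨y, hy, hyo, hyc⟩ := descend ι σ hσι hfix hP hPn hmem (by
    show n * extG D σ (φ x * ψ (τ x) * χ (τ (τ x))) * n⁻¹ = φ x * ψ (τ x) * χ (τ (τ x))
    rw [map_mul, map_mul, hφ.frob (h48 25 (by simp)) (h48 22 (by simp)),
      hψ.frob (h48 41 (by simp)) (h48 6 (by simp)), hχ.frob (h48 30 (by simp)) (h48 17 (by simp))]
    change n * (φ (τ x) * ψ (τ (τ x)) * χ (τ (τ (τ x)))) * n⁻¹ = _
    rw [hτ3, ← conj_mul, ← conj_mul, h12, h23, h31,
      ((hcm1 x (τ x)).mul_right (hcm2 x (τ (τ x)))).eq.symm, ← mul_assoc])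
  exact ⟨y, hy, by rw [hyo, orderOf_injective f hf, hx], hyc⟩

end Main

end CfsgLib.Known.F4Graph
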