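import Cfsg.Agent.Lib.Known.ChevSinger.F4

/-!
# The torus of order `q⁴ - q² + 1` of `F₄(q)`

The centraliser of an element of primitive prime order modulo the twelfth or eighth cyclotomic
value is cyclic of that order.
-/

set_option autoImplicit false
set_option maxRecDepth 20000

namespace CfsgLib.Known.F4Graph

open Cfsg.Lie CfsgLib.Chev CfsgLib.Known.ChevSinger CfsgLib.Known.ChevSinger.F4 Polynomial Matrix

universe u

theorem cyclotomic_twelve : cyclotomic 12 ℤ = X ^ 4 - X ^ 2 + 1 := by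
  have h6 : cyclotomic 6 ℤ = X ^ 2 - X + 1 := cyclotomic_six ℤ
  have h := cyclotomic_expand_eq_cyclotomic (R := ℤ) Nat.prime_two (show 2 ∣ 6 by norm_num)
  rw [show 6 * 2 = 12 from rfl, h6] at h
  rw [← h]
  simp
  ring

theorem gseq_rel_twelve {A : Matrix (Fin 4) (Fin 4) ℤ} (hA : Aᵀ * form * A = form)
    (hΦ : aeval A (cyclotomic 12 ℤ) = 0) (v : Fin 4 → ℤ) :
    2 * gseq form A v 2 = gseq form A v 0 ∧ gseq form A v 3 = 0 := by
  rw [cyclotomic_twelve] at hΦ
  have hdeg : ((X : ℤ[X]) ^ 4 - X ^ 2 + 1).natDegree ≤ 4 := by compute_degree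
  have h2 := gseq_recurrence form_symm hA v hdeg hΦ 2
  have h1 := gseq_recurrence form_symm hA v hdeg hΦ 1
  simp [Finset.sum_range_succ, coeff_X_pow, coeff_one] at h1 h2
  constructor <;> linarith

theorem det_gram_twelve {A : Matrix (Fin 4) (Fin 4) ℤ} (hA : Aᵀ * form * A = form)
    (hΦ : aeval A (cyclotomic 12 ℤ) = 0) (v : Fin 4 → ℤ) {a b : ℤ}
    (ha : gseq form A v 2 = a) (hb : gseq form A v 1 = b) :
    (orbitMat A v).det ^ 2 * 4 = (3 * a ^ 2 - b ^ 2) ^ 2 := by
  obtain ⟨h2, h3⟩ := gseq_rel_twelve hA hΦ v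
  have h0 : gseq form A v 0 = 2 * a := by linarith
  have h := det_gram form_symm hA v
  rw [show form.det = 4 by decide +kernel] at h
  rw [h]
  simp [Matrix.det_succ_row_zero, Fin.sum_univ_succ, gramOf, Fin.succAbove, h0, h3, ha, hb]
  ring

theorem good_twelve (A : Matrix (Fin 4) (Fin 4) ℤ) (hA : Aᵀ * form * A = form)
    (hΦ : aeval A (cyclotomic 12 ℤ) = 0) :
    (∀ s : Fin chevF4.nroots, ∀ r : ℕ, r.Prime → 12 ∣ r - 1 →
      ¬ (r : ℤ) ∣ (orbitMat A (cv s)).det) ∧
    ∃ s : Fin chevF4.nroots, IsUnit (orbitMat A (cv s)).det := by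
  have htot : Nat.totient 12 = 4 := by decide
  have hne : ∀ s : Fin chevF4.nroots, (orbitMat A (cv s)).det ≠ 0 :=
    fun s => det_orbitMat_ne_zero A (by norm_num) htot hΦ (cv_ne_zero s)
  have h0 : ∀ v, gseq form A v 0 = v ⬝ᵥ form *ᵥ v := fun v => by simp [gseq]
  refine ⟨fun s r hr hdr hdvd => ?_, ?_⟩
  · obtain ⟨h2, -⟩ := gseq_rel_twelve hA hΦ (cv s)
    obtain ⟨hb1, hb2⟩ := gseq_bound form_symm hA form_nonneg (cv s) 1
    have hg := det_gram_twelve hA hΦ (cv s) rfl rfl
    set x := (orbitMat A (cv s)).det with hx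
    have hr13 : 13 ≤ r := by
      obtain ⟨k, hk⟩ := hdr
      have := hr.two_le
      rcases k with _ | k
      · omega
      · omega
    have h13 : (13 : ℤ) ≤ |x| := by
      have := Int.le_of_dvd (abs_pos.2 (hne s)) ((dvd_abs _ _).2 hdvd)
      linarith [show (13 : ℤ) ≤ r by exact_mod_cast hr13]
    have hx2 : 169 ≤ x ^ 2 := by nlinarith [sq_abs x]
    rcases root_norm s with h | h <;> rw [← h0] at h <;> rw [h] at hb1 hb2 h2
    · rw [show gseq form A (cv s) 2 = 1 by linarith] at hg
      interval_cases hb : gseq form A (cv s) 1 <;> linarith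
    · rw [show gseq form A (cv s) 2 = 2 by linarith] at hg
      interval_cases hb : gseq form A (cv s) 1 <;> linarith
  · obtain ⟨s, -, hs⟩ := short_mem ![1, 0, 0, 0] (by simp)
    obtain ⟨h2, -⟩ := gseq_rel_twelve hA hΦ (cv s)
    obtain ⟨hb1, hb2⟩ := gseq_bound form_symm hA form_nonneg (cv s) 1
    rw [← h0] at hs
    rw [hs] at hb1 hb2 h2
    have hg := det_gram_twelve hA hΦ (cv s) (show gseq form A (cv s) 2 = 1 by linarith) rfl
    refine ⟨s, Int.isUnit_iff.2 (sq_eq_one_iff.1 ?_)⟩
    interval_cases hb : gseq form A (cv s) 1 <;> omega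

theorem data_twelve : SingerData chevF4 DataF4.co 12 [2, 6, 8, 12] cartanInv form where
  comm := good_F4.comm
  three := by norm_num
  totient := (by decide : Nat.totient 12 = 4)
  inv := ChevSinger.F4.data.inv
  len := rfl
  mem := by simp
  small r hr hdr := by
    obtain ⟨k, hk⟩ := hdr
    have := hr.two_le
    have h13 : 13 ≤ r := by
      rcases k with _ | k
      · omega
      · omega
    refine ⟨show 4 + 1 < r by omega, fun m hm hd => ?_⟩
    simp only [List.mem_cons, List.not_mem_nil, or_false] at hm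
    have := Nat.le_of_dvd (by omega) hd
    omega
  order := ChevSinger.F4.data.order
  form := refl4_form
  good A hA hΦ _ := good_twelve A hA hΦ

theorem order_degs {F : Type u} [Field F] [Finite F] :
    Nat.card ↥(chevF4.group F) =
      Nat.card F ^ (chevF4.nroots / 2) * (([2, 6, 8, 12] : List ℕ).map fun k => Nat.card F ^ k - 1).prod := by
  have h := order_F4 (F := F)
  rw [one_mul] at h
  rw [h, show chevF4.nroots / 2 = 24 by decide +kernel]
  simp [mul_assoc]

/-- The centralisers of the elements of primitive prime order for `d = 8, 12`. -/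
theorem centralizer_cyclic {F : Type u} [Field F] [Finite F] {d r : ℕ} (hd : d = 8 ∨ d = 12)
    (hr : r.Prime) (ho : orderOf (Nat.card F : ZMod r) = d)
    (h : ↥(chevF4.group F)) (hh : orderOf h = r) :
    ∃ H : Subgroup ↥(chevF4.group F), IsCyclic ↥H ∧
      (Nat.card ↥H : ℤ) = (cyclotomic d ℤ).eval (Nat.card F : ℤ) ∧
      ∀ y, Commute y h → y ∈ H := by
  haveI : Fact r.Prime := ⟨hr⟩
  have hd0 : d ≠ 0 := by omega
  have hq : (Nat.card F : ZMod r) ≠ 0 := fun h0 => by
    rw [h0, orderOf_zero] at ho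
    omega
  have hdr : d ∣ r - 1 := ho ▸ ZMod.orderOf_dvd_card_sub_one hq
  have hrd : r ∣ Nat.card F ^ d - 1 := by
    rw [← ZMod.natCast_eq_zero_iff, Nat.cast_sub (Nat.one_le_pow _ _ Nat.card_pos), Nat.cast_pow,
      ← ho, pow_orderOf_eq_one, Nat.cast_one, sub_self]
  refine ⟨Subgroup.centralizer ((Subgroup.zpowers h : Subgroup ↥(chevF4.group F)) : Set _), ?_⟩
  have key : IsCyclic ↥(Subgroup.centralizer
      ((Subgroup.zpowers h : Subgroup ↥(chevF4.group F)) : Set ↥(chevF4.group F))) ∧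
      (Nat.card ↥(Subgroup.centralizer
        ((Subgroup.zpowers h : Subgroup ↥(chevF4.group F)) : Set ↥(chevF4.group F))) : ℤ) =
          (cyclotomic d ℤ).eval (Nat.card F : ℤ) := by
    rcases hd with rfl | rfl
    · exact centralizer_of_primitive DataF4.facts ChevSinger.F4.data alcove hr hrd ho hdr order_degs h hh
    · exact centralizer_of_primitive DataF4.facts data_twelve alcove hr hrd ho hdr order_degs h hh
  refine ⟨key.1, key.2, fun y hy => Subgroup.mem_centralizer_iff.2 fun z hz => ?_⟩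
  obtain ⟨j, rfl⟩ := Subgroup.mem_zpowers_iff.1 hz
  exact ((hy.zpow_right j).symm).eq

end CfsgLib.Known.F4Graph
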