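import Cfsg.Agent.Lib.Known.F4Graph.Cert
import Cfsg.Agent.Lib.Known.F4Graph.Twelve

/-!
# Non-adjacent pairs of primes of `F₄(q)`
-/

set_option autoImplicit false
set_option maxRecDepth 20000

namespace CfsgLib.Known.F4Graph

open Cfsg.Lie CfsgLib.Chev CfsgLib.Known.ChevSinger Polynomial Matrix

universe u v

/-- An element of prime order of a subgroup containing the diagonal subgroup is conjugate into it
inside that subgroup. -/
theorem conj_diag_in {D : ChevalleyDatum} {co : ℕ → ℕ → ℤ} {K : Type v} [Field K] [Finite K]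
    (hF : Facts D co) {degs : List ℕ} (hlen : degs.length = D.rank)
    (hG : Nat.card ↥(D.group K) =
      Nat.card K ^ (D.nroots / 2) * (degs.map fun k => Nat.card K ^ k - 1).prod)
    (hH : Nat.card ↥(D.diagonalSubgroup K) = (Nat.card K - 1) ^ D.rank)
    {r : ℕ} [hr : Fact r.Prime] (hrQ : r ∣ Nat.card K - 1) (hrk : ∀ k ∈ degs, ¬ r ∣ k)
    {X : Subgroup (GL D.Idx K)} (hDX : D.diagonalSubgroup K ≤ X) (hXG : X ≤ D.group K)
    {x : GL D.Idx K} (hx : x ∈ X) (hxr : x ^ r = 1) :
    ∃ g ∈ X, g * x * g⁻¹ ∈ D.diagonalSubgroup K := by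
  classical
  set Q := Nat.card K with hQdef
  have hQ : 1 < Q := Finite.one_lt_card
  obtain ⟨m, hm, hmr⟩ : ∃ m, Nat.card ↥(D.group K) = Nat.card ↥(D.diagonalSubgroup K) * m ∧
      ¬ r ∣ m := by
    refine ⟨Q ^ (D.nroots / 2) * (degs.map fun k => ∑ i ∈ Finset.range k, Q ^ i).prod, ?_, ?_⟩
    · rw [hG, hH, ← hlen]
      clear hG hH hrk hlen
      induction degs with
      | nil => simp
      | cons k L ih =>
        rw [List.map_cons, List.prod_cons, List.map_cons, List.prod_cons, List.length_cons,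
          pow_succ, ← geom_sum_mul_of_one_le (by omega) k]
        calc Q ^ (D.nroots / 2) * ((∑ i ∈ Finset.range k, Q ^ i) * (Q - 1) *
              (L.map fun k => Q ^ k - 1).prod)
            = (∑ i ∈ Finset.range k, Q ^ i) * (Q - 1) *
              (Q ^ (D.nroots / 2) * (L.map fun k => Q ^ k - 1).prod) := by ring
          _ = _ := by rw [ih]; ring
    · have hQ1 : ((Q : ℕ) : ZMod r) = 1 := by
        have h0 : ((Q - 1 : ℕ) : ZMod r) = 0 := (ZMod.natCast_eq_zero_iff _ _).2 hrQ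
        rwa [Nat.cast_sub hQ.le, Nat.cast_one, sub_eq_zero] at h0
      rw [← ZMod.natCast_eq_zero_iff _ r, Nat.cast_mul, Nat.cast_pow, hQ1, one_pow, one_mul,
        Nat.cast_list_prod, List.map_map]
      refine List.prod_ne_zero fun h0 => ?_
      obtain ⟨k, hk, hk0⟩ := List.mem_map.1 h0
      simp only [Function.comp_apply, Nat.cast_sum, Nat.cast_pow, hQ1, one_pow, Finset.sum_const,
        Finset.card_range, nsmul_one] at hk0
      exact hrk k hk ((ZMod.natCast_eq_zero_iff _ _).1 hk0)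
  set H := (D.diagonalSubgroup K).subgroupOf X with hHdef
  have hidx : ¬ r ∣ H.index := by
    have h1 : (D.diagonalSubgroup K).relIndex X * X.relIndex (D.group K) =
        (D.diagonalSubgroup K).relIndex (D.group K) := Subgroup.relIndex_mul_relIndex _ _ _ hDX hXG
    have h2 : (D.diagonalSubgroup K).relIndex (D.group K) = m := by
      have h3 := ((D.diagonalSubgroup K).subgroupOf (D.group K)).card_mul_index
      rw [Nat.card_congr (Subgroup.subgroupOfEquivOfLe (hDX.trans hXG)).toEquiv, hm] at h3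
      exact Nat.eq_of_mul_eq_mul_left Nat.card_pos h3
    intro h
    exact hmr (h2 ▸ h1 ▸ h.mul_right _)
  obtain ⟨S⟩ : Nonempty (Sylow r ↥H) := inferInstance
  set T : Subgroup ↥X := (S : Subgroup ↥H).map H.subtype with hT'
  have hTidx : ¬ r ∣ T.index := by
    rw [show T.index = (S : Subgroup ↥H).index * H.index from Subgroup.index_map_subtype _,
      Nat.Prime.dvd_mul hr.out]
    push_neg
    exact ⟨S.not_dvd_index, hidx⟩
  obtain ⟨S', hS'⟩ : ∃ S' : Sylow r ↥X, (S' : Subgroup ↥X) = T :=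
    ⟨(S.isPGroup'.map _).toSylow hTidx, rfl⟩
  have hxp : IsPGroup r (Subgroup.zpowers (⟨x, hx⟩ : ↥X)) := by
    intro y
    refine ⟨1, ?_⟩
    obtain ⟨y, k, rfl⟩ := y
    refine Subtype.ext (Subtype.ext ?_)
    simp only [pow_one, Subgroup.coe_pow, Subgroup.coe_zpow, Subgroup.coe_one]
    rw [← zpow_natCast, ← _root_.zpow_mul, mul_comm, _root_.zpow_mul, zpow_natCast, hxr, _root_.one_zpow]
  obtain ⟨S'', hS''⟩ := hxp.exists_le_sylow
  obtain ⟨g, hg⟩ := MulAction.exists_smul_eq (↥X) S'' S'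
  refine ⟨g, g.2, ?_⟩
  have h1 : g * (⟨x, hx⟩ : ↥X) * g⁻¹ ∈ (S' : Subgroup ↥X) := by
    rw [← hg]
    exact Subgroup.smul_mem_pointwise_smul _ (MulAut.conj g) _ (hS'' (Subgroup.mem_zpowers _))
  rw [hS', hT', Subgroup.mem_map] at h1
  obtain ⟨y, -, hy⟩ := h1
  have := y.2
  rw [Subgroup.mem_subgroupOf] at this
  rwa [show ((y : ↥X) : GL D.Idx K) = (g : GL D.Idx K) * x * (g : GL D.Idx K)⁻¹ from
    congrArg Subtype.val hy] at this

variable {F : Type u} [Field F] [Finite F]

theorem dvd_of_orderOf {q s d N : ℕ} (hq : 1 ≤ q) (ho : orderOf (q : ZMod s) = d) (hd : d ∣ N) :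
    s ∣ q ^ N - 1 := by
  rw [← ZMod.natCast_eq_zero_iff, Nat.cast_sub (Nat.one_le_pow _ _ hq), Nat.cast_pow,
    orderOf_dvd_iff_pow_eq_one.1 (ho ▸ hd), Nat.cast_one, sub_self]

theorem orderOf_lt_prime {q r d : ℕ} (hr : r.Prime) (ho : orderOf (q : ZMod r) = d) (hd : d ≠ 0) :
    d < r ∧ d ∣ r - 1 := by
  haveI : Fact r.Prime := ⟨hr⟩
  have hne : (q : ZMod r) ≠ 0 := fun h0 => by rw [h0, orderOf_zero] at ho; exact hd ho.symm
  have h : d ∣ r - 1 := ho ▸ ZMod.orderOf_dvd_card_sub_one hne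
  have := Nat.le_of_dvd (by have := hr.two_le; omega) h
  exact ⟨by have := hr.two_le; omega, h⟩

/-- Primes of two different orders among three, four and six are not adjacent. -/
theorem not_adjacent_mid {r s d e : ℕ} (hr : r.Prime) (hs : s.Prime)
    (hd : d = 3 ∨ d = 4 ∨ d = 6) (he : e = 3 ∨ e = 4 ∨ e = 6) (hde : d ≠ e)
    (hod : orderOf (Nat.card F : ZMod r) = d) (hoe : orderOf (Nat.card F : ZMod s) = e)
    (z : ↥(chevF4.group F)) : orderOf z ≠ r * s := by
  classical
  intro hz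
  haveI : Fact r.Prime := ⟨hr⟩
  haveI : Fact s.Prime := ⟨hs⟩
  haveI := Fintype.ofFinite F
  have hF := DataF4.facts
  have hrs : r ≠ s := fun h => hde (by subst h; rw [← hod, ← hoe])
  obtain ⟨hr3, hrd⟩ := orderOf_lt_prime hr hod (by omega)
  obtain ⟨hs3, hsd⟩ := orderOf_lt_prime hs hoe (by omega)
  have hbig : ∀ {p c : ℕ}, p.Prime → c < p → (c = 3 ∨ c = 4 ∨ c = 6) →
      5 ≤ p ∧ ∀ k ∈ ([2, 6, 8, 12] : List ℕ), ¬ p ∣ k := by
    intro p c hp hc hcc
    have h5 : 5 ≤ p := by
      by_contra hlt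
      interval_cases p <;> first | omega | exact absurd hp (by norm_num)
    refine ⟨h5, fun k hk hdvd => ?_⟩
    simp only [List.mem_cons, List.not_mem_nil, or_false] at hk
    have h12 : p ≤ k := Nat.le_of_dvd (by omega) hdvd
    rcases hk with rfl | rfl | rfl | rfl <;> interval_cases p <;>
      first | omega | exact absurd hp (by norm_num)
  obtain ⟨hr5, hrk⟩ := hbig hr hr3 hd
  obtain ⟨hs5, hsk⟩ := hbig hs hs3 he
  -- the large field
  obtain ⟨p, hp⟩ := CharP.exists F
  obtain ⟨f, hpp, hf⟩ := FiniteField.card F p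
  haveI : Fact p.Prime := ⟨hpp⟩
  let K := FiniteField.Extension F p 12
  let ι : F →+* K := algebraMap F K
  haveI : CharP K p := charP_of_injective_ringHom ι.injective p
  let σ : K →+* K := iterateFrobenius K p f
  obtain ⟨q, hq⟩ : ∃ q, q = Nat.card F := ⟨_, rfl⟩
  rw [← hq] at hod hoe
  have hq1 : 1 ≤ q := hq ▸ Nat.card_pos
  have hσ : ∀ x, σ x = x ^ q := fun x => by
    rw [hq, Nat.card_eq_fintype_card, hf]; exact iterateFrobenius_def p f x
  have hσu : ∀ x : Kˣ, Units.map σ.toMonoidHom x = x ^ q := fun x =>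
    Units.ext (by rw [Units.val_pow_eq_pow_val]; exact hσ x)
  have hσι : σ.comp ι = ι := RingHom.ext fun x => by
    rw [RingHom.comp_apply, hσ, ← map_pow, hq, Nat.card_eq_fintype_card, FiniteField.pow_card]
  have hK : Nat.card K = q ^ 12 := by rw [FiniteField.natCard_extension, hq]
  obtain ⟨hGK, hHK⟩ := ChevSinger.F4.data.order K
  have hC : CommF.{0} chevF4 := good_F4.comm
  let i₀ : ↥(chevF4.group F) →* GL chevF4.Idx K := (extG chevF4 ι).comp (chevF4.group F).subtype
  have hi₀ : Function.Injective i₀ := (extG_injective ι).comp Subtype.val_injective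
  have hi₀G : ∀ x, i₀ x ∈ chevF4.group K := fun x => extG_mem_group ι hF x.2
  have hi₀σ : ∀ x, extG chevF4 σ (i₀ x) = i₀ x := fun x => by
    show extG chevF4 σ (extG chevF4 ι _) = extG chevF4 ι _
    rw [extG_comp, hσι]
  have hd12 : d ∣ 12 := by rcases hd with rfl | rfl | rfl <;> norm_num
  have he12 : e ∣ 12 := by rcases he with rfl | rfl | rfl <;> norm_num
  have hzrs : z ^ (r * s) = 1 := hz ▸ pow_orderOf_eq_one z
  -- diagonalise the two parts
  set x := i₀ (z ^ s) with hxdef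
  set y := i₀ (z ^ r) with hydef
  have hxy : Commute x y := ((Commute.refl z).pow_pow s r).map i₀
  obtain ⟨P₁, hP₁, hP₁d⟩ := exists_conj_diag hF ChevSinger.F4.data.len hGK hHK (r := r)
    (by rw [hK]; exact dvd_of_orderOf hq1 hod hd12) hrk (hi₀G (z ^ s))
    (by rw [← map_pow, ← pow_mul, mul_comm, hzrs, map_one])
  set x' := P₁ * x * P₁⁻¹ with hx'
  set X := Subgroup.centralizer ({x'} : Set (GL chevF4.Idx K)) ⊓ chevF4.group K with hX
  have hDX : chevF4.diagonalSubgroup K ≤ X := le_inf (fun g hg => by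
    rw [Subgroup.mem_centralizer_singleton_iff]
    obtain ⟨a, rfl⟩ := hF.mem_diagonal_iff.1 hg
    obtain ⟨b, hb⟩ := hF.mem_diagonal_iff.1 hP₁d
    change hT chevF4 a * x' = x' * hT chevF4 a
    rw [show x' = hT chevF4 b from hb, hT_eq_dU, hT_eq_dU]
    exact (dU_commute _ _).eq) hF.diagonal_le_group
  have hyX : P₁ * y * P₁⁻¹ ∈ X := by
    refine ⟨Subgroup.mem_centralizer_singleton_iff.2 ?_,
      Subgroup.mul_mem _ (Subgroup.mul_mem _ hP₁ (hi₀G _)) (Subgroup.inv_mem _ hP₁)⟩
    rw [hx', conj_mul, conj_mul, hxy.eq]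
  obtain ⟨g, hg, hgd⟩ := conj_diag_in hF ChevSinger.F4.data.len hGK hHK (r := s)
    (by rw [hK]; exact dvd_of_orderOf hq1 hoe he12) hsk hDX inf_le_right hyX
    (by rw [conj_pow, hydef, ← map_pow, ← pow_mul, hzrs, map_one, mul_one, mul_inv_cancel])
  set P := g * P₁ with hPdef
  have hP : P ∈ chevF4.group K := Subgroup.mul_mem _ hg.2 hP₁
  have hxd : P * x * P⁻¹ ∈ chevF4.diagonalSubgroup K := by
    have e : P * x * P⁻¹ = g * x' * g⁻¹ := by rw [hPdef, hx']; group
    rw [e, Subgroup.mem_centralizer_singleton_iff.1 hg.1, mul_inv_cancel_right]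
    exact hP₁d
  have hyd : P * y * P⁻¹ ∈ chevF4.diagonalSubgroup K := by
    have e : P * y * P⁻¹ = g * (P₁ * y * P₁⁻¹) * g⁻¹ := by rw [hPdef]; group
    rw [e]
    exact hgd
  -- the whole element
  let cj : ↥(chevF4.group F) →* GL chevF4.Idx K := (MulAut.conj P).toMonoidHom.comp i₀
  have hcj : Function.Injective cj := (MulAut.conj P).injective.comp hi₀
  have hzd : cj z ∈ chevF4.diagonalSubgroup K := by
    obtain ⟨a, b, hab⟩ : IsCoprime (s : ℤ) (r : ℤ) :=
      Nat.Coprime.isCoprime ((Nat.coprime_primes hs hr).2 (Ne.symm hrs))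
    have e : z = (z ^ s) ^ a * (z ^ r) ^ b := by
      rw [← zpow_natCast, ← zpow_natCast, ← _root_.zpow_mul, ← _root_.zpow_mul, ← _root_.zpow_add,
        mul_comm (s : ℤ), mul_comm (r : ℤ), hab, zpow_one]
    rw [e, map_mul, map_zpow, map_zpow]
    exact Subgroup.mul_mem _ (Subgroup.zpow_mem _ hxd _) (Subgroup.zpow_mem _ hyd _)
  obtain ⟨c, hc⟩ := hF.mem_diagonal_iff.1 hzd
  have hc' : cj z = hT chevF4 c := hc
  set M : GL chevF4.Idx K := P * (extG chevF4 σ P)⁻¹ with hM
  have hMG : M ∈ chevF4.group K :=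
    Subgroup.mul_mem _ hP (Subgroup.inv_mem _ (extG_mem_group σ hF hP))
  have key : hT chevF4 c * M = M * hT chevF4 (fun i => Units.map σ.toMonoidHom (c i)) := by
    rw [← extG_hT, ← hc']
    show P * i₀ z * P⁻¹ * M = M * extG chevF4 σ (P * i₀ z * P⁻¹)
    rw [map_mul, map_mul, map_inv, hi₀σ, hM]
    group
  obtain ⟨l, hl, -⟩ := exists_intertwine hF hC hMG key
  set L := torHom chevF4 c with hLdef
  have hLA : ∀ v, L (wM chevF4 l *ᵥ v) = (q : ℤ) • L v := by
    let L1 : (Fin chevF4.rank → ℤ) →+ Additive Kˣ :=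
      { toFun := fun v => L (wM chevF4 l *ᵥ v)
        map_zero' := by simp
        map_add' := fun v w => by rw [Matrix.mulVec_add, map_add] }
    have e : L1 = (q : ℤ) • L := hom_ext_roots hF fun t => by
      show L (wM chevF4 l *ᵥ coV chevF4 DataF4.co t.val) = (q : ℤ) • L (coV chevF4 DataF4.co t.val)
      rw [← coV_sW hF, hLdef, torHom_coV hF c (sW chevF4 l t).isLt, torHom_coV hF c t.isLt,
        ← hl t, chiT_map, hσu, ofMul_pow, natCast_zsmul]
    exact fun v => DFunLike.congr_fun e v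
  have hord : ∀ v, ((r * s : ℕ) : ℤ) • L v = 0 := fun v => by
    have e : ((r * s : ℕ) : ℤ) • L = 0 := hom_ext_roots hF fun t => by
      show ((r * s : ℕ) : ℤ) • L (coV chevF4 DataF4.co t.val) = 0
      rw [hLdef, torHom_coV hF c t.isLt, natCast_zsmul, ← ofMul_pow,
        chiT_pow_eq_one hF (by rw [← hc', ← map_pow, hzrs, map_one]) t.isLt, ofMul_one]
    exact DFunLike.congr_fun e v
  have hne : ∀ k : ℕ, ¬ r * s ∣ k → ¬ ∀ v, ((k : ℤ) • L) v = 0 := by
    intro k hk h0
    refine hk (hz ▸ orderOf_dvd_of_pow_eq_one (hcj ?_))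
    rw [map_pow, hc', map_one]
    have key : ∀ n : ℕ, hT chevF4 c ^ n = dU chevF4 (fun t => chiT chevF4 c t ^ n) := by
      intro n
      induction n with
      | zero => simp [← dU_one]
      | succ n ih => rw [pow_succ, ih, hT_eq_dU, dU_mul]; simp only [pow_succ]
    rw [key, ← dU_one]
    refine dU_congr fun t ht => Additive.ofMul.injective ?_
    have := h0 (coV chevF4 DataF4.co t)
    change (k : ℤ) • L (coV chevF4 DataF4.co t) = 0 at this
    rw [hLdef, torHom_coV hF c ht, natCast_zsmul] at this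
    rw [ofMul_pow, this, ofMul_one]
  have hL : ∀ k : ℕ, ∀ v, ((k : ℤ) • L) (wM chevF4 l *ᵥ v) = (q : ℤ) • ((k : ℤ) • L) v := fun k v => by
    show (k : ℤ) • L _ = (q : ℤ) • ((k : ℤ) • L v)
    rw [hLA, smul_comm]
  rcases no_two l (M := Additive Kˣ) (M' := Additive Kˣ) (by omega : 3 < r) (by omega : 3 < s)
      hd he hde hod hoe ((s : ℤ) • L) ((r : ℤ) • L)
      (fun v => by
        show (r : ℤ) • ((s : ℤ) • L v) = 0
        rw [← mul_smul, ← Nat.cast_mul]; exact hord v)
      (fun v => by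
        show (s : ℤ) • ((r : ℤ) • L v) = 0
        rw [← mul_smul, ← Nat.cast_mul, mul_comm]; exact hord v)
      (hL s) (hL r) with h | h
  · refine hne s (fun hd' => ?_) h
    have := Nat.le_of_dvd hs.pos hd'
    nlinarith [hr.two_le, hs.two_le]
  · refine hne r (fun hd' => ?_) h
    have := Nat.le_of_dvd hr.pos hd'
    nlinarith [hr.two_le, hs.two_le]

theorem zmod_three : ∀ a : ZMod 3, a ^ 4 + 1 ≠ 0 ∧ a ^ 4 - a ^ 2 + 1 ≠ 0 := by decide

/-- Primes of order eight or twelve are adjacent only to primes of the same order. -/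
theorem not_adjacent_top {r s e : ℕ} (hr : r.Prime) (hs : s.Prime) (hrs : r ≠ s) (he : e = 8 ∨ e = 12)
    (hoe : orderOf (Nat.card F : ZMod s) = e) (hev : 2 ∣ Nat.card F)
    (hre : r = 2 ∨ orderOf (Nat.card F : ZMod r) ≠ e) (z : ↥(chevF4.group F)) :
    orderOf z ≠ r * s := by
  intro hz
  haveI : Fact r.Prime := ⟨hr⟩
  have hh : orderOf (z ^ r) = s := by
    rw [orderOf_pow_of_dvd hr.ne_zero (hz ▸ dvd_mul_right r s), hz, Nat.mul_div_cancel_left _ hr.pos]
  obtain ⟨H, -, hcard, hH⟩ := centralizer_cyclic he hs hoe (z ^ r) hh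
  have hzH : z ∈ H := hH z ((Commute.refl z).pow_right r)
  have hdvd : r ∣ Nat.card ↥H := by
    have := orderOf_dvd_natCard (⟨z, hzH⟩ : H)
    rw [← Subgroup.orderOf_coe, hz] at this
    exact dvd_trans (dvd_mul_right r s) this
  set q := Nat.card F with hq
  have hzero : ((cyclotomic e (ZMod r)).eval (q : ZMod r)) = 0 := by
    have h1 : ((Nat.card ↥H : ℤ) : ZMod r) = 0 := by
      rw [Int.cast_natCast]
      exact (ZMod.natCast_eq_zero_iff _ _).2 hdvd
    rw [hcard] at h1
    rw [← map_cyclotomic_int e (ZMod r), Polynomial.eval_map]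
    rw [← h1, show ((q : ℕ) : ZMod r) = (Int.castRingHom (ZMod r)) (q : ℤ) by simp,
      Polynomial.eval₂_at_apply]
    rfl
  rcases Nat.lt_or_ge r 5 with hlt | hge
  · interval_cases r
    · exact absurd hr (by norm_num)
    · exact absurd hr (by norm_num)
    · have hq0 : (q : ZMod 2) = 0 := (ZMod.natCast_eq_zero_iff _ _).2 hev
      rw [hq0, ← Polynomial.coeff_zero_eq_eval_zero, cyclotomic_coeff_zero _ (by omega)] at hzero
      exact one_ne_zero hzero
    · have h3 := zmod_three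
      rw [← map_cyclotomic_int e (ZMod 3)] at hzero
      rcases he with rfl | rfl
      · rw [ChevSinger.F4.cyclotomic_eight] at hzero
        exact (h3 (q : ZMod 3)).1 (by simpa using hzero)
      · rw [cyclotomic_twelve] at hzero
        exact (h3 (q : ZMod 3)).2 (by simpa using hzero)
    · exact absurd hr (by norm_num)
  · haveI : NeZero (e : ZMod r) := ⟨fun h0 => by
      have h1 := (ZMod.natCast_eq_zero_iff _ _).1 h0
      have h12 : r ≤ 12 := (Nat.le_of_dvd (by omega) h1).trans (by omega)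
      rcases he with rfl | rfl <;> interval_cases r <;>
        first | omega | exact absurd hr (by norm_num)⟩
    have hp : IsPrimitiveRoot (q : ZMod r) e := isRoot_cyclotomic_iff.1 hzero
    rcases hre with h | h
    · omega
    · exact h hp.eq_orderOf.symm

end CfsgLib.Known.F4Graph
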