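import Cfsg.Agent.Lib.Known.F4Graph.Exist
import Cfsg.Agent.Lib.Known.F4Graph.Negative

/-!
# The prime graph of `F₄(2ⁿ)`
-/

set_option autoImplicit false
set_option maxRecDepth 20000

namespace CfsgLib.Known.F4Graph

open Cfsg.Lie CfsgLib.Chev CfsgLib.Known.ChevSinger
open scoped MatrixGroups

universe u

local notation "D" => chevF4
local notation "hF" => DataF4.facts

variable {F : Type u} [Field F] [Finite F] [CharP F 2]

omit [CharP F 2] in
theorem exists_orderOf_dvd {G : Type*} [Monoid G] {g : G} {N m : ℕ} (hg : orderOf g = N)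
    (hN : N ≠ 0) (h : m ∣ N) : ∃ x : G, x ∈ Submonoid.powers g ∧ orderOf x = m :=
  ⟨g ^ (N / m), ⟨_, rfl⟩, by rw [← hg, orderOf_pow_orderOf_div (hg ▸ hN) (hg ▸ h)]⟩

/-- The orders of `q` modulo the prime divisors of the group order. -/
theorem order_cases {r : ℕ} (hr : r.Prime) (hr2 : r ≠ 2)
    (hrG : r ∣ Nat.card ↥(chevF4.group F)) :
    orderOf (Nat.card F : ZMod r) ∈ [1, 2, 3, 4, 6, 8, 12] := by
  haveI : Fact r.Prime := ⟨hr⟩
  rw [order_degs, hr.dvd_mul] at hrG
  have hrq : ¬ r ∣ Nat.card F := by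
    haveI := Fintype.ofFinite F
    obtain ⟨f, hp, hf⟩ := FiniteField.card F 2
    rw [Nat.card_eq_fintype_card, hf]
    intro h
    exact hr2 ((Nat.prime_dvd_prime_iff_eq hr Nat.prime_two).1 (hr.dvd_of_dvd_pow h))
  rcases hrG with h | h
  · exact absurd (hr.dvd_of_dvd_pow h) hrq
  obtain ⟨x, hx, hdvd⟩ := (Nat.prime_iff.1 hr).dvd_prod_iff.1 h
  obtain ⟨j, hj, rfl⟩ := List.mem_map.1 hx
  have h1 : (Nat.card F : ZMod r) ^ j = 1 := by
    rw [← sub_eq_zero, ← Nat.cast_pow, ← Nat.cast_one, ← Nat.cast_sub (Nat.one_le_pow _ _ Nat.card_pos),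
      ZMod.natCast_eq_zero_iff]
    exact hdvd
  have h2 := orderOf_dvd_of_pow_eq_one h1
  simp only [List.mem_cons, List.not_mem_nil, or_false] at hj ⊢
  rcases hj with rfl | rfl | rfl | rfl <;>
    · have h3 := Nat.le_of_dvd (by norm_num) h2
      generalize orderOf (Nat.card F : ZMod r) = o at h2 h3 ⊢
      interval_cases o <;> first | omega | exact absurd h2 (by norm_num)

omit [CharP F 2] in
/-- Elements commuting with the long root subgroups, of orders divisible by each prime with `e ≤ 6`. -/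
theorem exists_low [CharP F 2] {d : ℕ} (hd : d ∈ [1, 2, 3, 4, 6]) :
    ∃ g ∈ chevF4.group F, ∃ N : ℕ, orderOf g = N ∧ N ≠ 0 ∧
      (∀ r : ℕ, r.Prime → r ≠ 2 → orderOf (Nat.card F : ZMod r) = d → r ∣ N) ∧
      ∀ s ∈ [0, 47], ∀ u : F, Commute g (xU D s u) := by
  set q := Nat.card F with hq
  have hq2 : 2 ≤ q := Finite.one_lt_card
  have hzero : ∀ {r j : ℕ}, r.Prime → orderOf (q : ZMod r) ∣ j → r ∣ q ^ j - 1 :=
    fun _ h => dvd_of_orderOf (by omega) rfl h
  have hplus : ∀ {r j : ℕ}, r.Prime → orderOf (q : ZMod r) = 2 * j → 0 < j → r ∣ q ^ j + 1 := by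
    intro r j hr ho hj
    haveI : Fact r.Prime := ⟨hr⟩
    rw [← ZMod.natCast_eq_zero_iff, Nat.cast_add, Nat.cast_pow, Nat.cast_one]
    have h1 : ((q : ZMod r) ^ j - 1) * ((q : ZMod r) ^ j + 1) = 0 := by
      have := ho ▸ pow_orderOf_eq_one (q : ZMod r)
      linear_combination this
    exact (mul_eq_zero.1 h1).resolve_left fun h =>
      ((orderOf_eq_iff (by omega)).1 ho).2 j (by omega) hj (sub_eq_zero.1 h)
  have hq3 : 8 ≤ q ^ 3 := le_trans (by norm_num) (Nat.pow_le_pow_left hq2 3)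
  have hq4 : 4 ≤ q ^ 2 := le_trans (by norm_num) (Nat.pow_le_pow_left hq2 2)
  simp only [List.mem_cons, List.not_mem_nil, or_false] at hd
  rcases hd with rfl | rfl | rfl | rfl | rfl
  · obtain ⟨g, h1, h2, h3⟩ := exists_two (F := F) (q ^ 2 - 1) (by simp [hq])
    exact ⟨g, h1, _, h2, by omega, fun r hr _ ho => hzero hr (by rw [ho]; norm_num), h3⟩
  · obtain ⟨g, h1, h2, h3⟩ := exists_two (F := F) (q ^ 2 - 1) (by simp [hq])
    exact ⟨g, h1, _, h2, by omega, fun r hr _ ho => hzero hr (by rw [ho]), h3⟩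
  · obtain ⟨g, h1, h2, h3⟩ := exists_three (F := F) (q ^ 3 - 1) (by simp [hq])
    exact ⟨g, h1, _, h2, by omega, fun r hr _ ho => hzero hr (by rw [ho]), h3⟩
  · obtain ⟨g, h1, h2, h3⟩ := exists_two (F := F) (q ^ 2 + 1) (by simp [hq])
    exact ⟨g, h1, _, h2, by omega, fun r hr _ ho => hplus hr (by rw [ho]) (by norm_num), h3⟩
  · obtain ⟨g, h1, h2, h3⟩ := exists_three (F := F) (q ^ 3 + 1) (by simp [hq])
    exact ⟨g, h1, _, h2, by omega, fun r hr _ ho => hplus hr (by rw [ho]) (by norm_num), h3⟩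

/-- Elements of the long root `SL₂`. -/
theorem exists_root (m : ℕ) (hm : m = Nat.card F - 1 ∨ m = Nat.card F + 1) :
    ∃ t ∈ chevF4.group F, orderOf t = m ∧
      ∀ g : GL chevF4.Idx F, (∀ s ∈ [0, 47], ∀ u : F, Commute g (xU D s u)) → Commute g t := by
  have h48 : (47 : ℕ) < chevF4.nroots := by rw [simples.2.2.2.1]; norm_num
  have h0 : (0 : ℕ) < chevF4.nroots := by rw [simples.2.2.2.1]; norm_num
  haveI := Fintype.ofFinite F
  obtain ⟨φ, hφ⟩ := exists_rootHom (K := F) h48 negs.2.2.2.2.2.1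
  -- injectivity through a quadratic extension
  obtain ⟨K, _, _, ι, -, hK, -, -, -⟩ := exists_frob (F := F) 2
  haveI : CharP K 2 := charP_of_injective_ringHom ι.injective 2
  obtain ⟨φK, hφK⟩ := exists_rootHom (K := K) h48 negs.2.2.2.2.2.1
  have hq2 : 2 ≤ Nat.card F := Finite.one_lt_card
  have hKinj : Function.Injective φK := injective_of_ne (by rw [hK]; nlinarith) φK fun h => by
    rw [hφK.up] at h
    exact one_ne_zero (Facts.xU_eq_one hF h48 h)
  have hnat : ∀ x, extG D ι (φ x) = φK (Matrix.SpecialLinearGroup.map ι x) := by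
    intro x
    refine DFunLike.congr_fun (hom_two_ext (f := (extG D ι).comp φ)
      (g := φK.comp (Matrix.SpecialLinearGroup.map ι)) fun t => ⟨?_, ?_⟩) x
    · have e : Matrix.SpecialLinearGroup.map ι (upM t) = upM (ι t) := by
        refine Subtype.ext ?_
        show (!![(1 : F), t; 0, 1]).map ι = !![1, ι t; 0, 1]
        ext i j; fin_cases i <;> fin_cases j <;> simp
      show extG D ι (φ _) = φK (Matrix.SpecialLinearGroup.map ι _)
      rw [e, hφ.up, hφK.up, extG_xU ι hF h48]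
    · have e : Matrix.SpecialLinearGroup.map ι (loM t) = loM (ι t) := by
        refine Subtype.ext ?_
        show (!![(1 : F), 0; t, 1]).map ι = !![1, 0; ι t, 1]
        ext i j; fin_cases i <;> fin_cases j <;> simp
      show extG D ι (φ _) = φK (Matrix.SpecialLinearGroup.map ι _)
      rw [e, hφ.lo, hφK.lo, extG_xU ι hF h0]
  have hinj : Function.Injective φ := fun x y h => by
    have h1 := congrArg (extG D ι) h
    rw [hnat, hnat] at h1
    exact Subtype.ext (Matrix.map_injective ι.injective (congrArg Subtype.val (hKinj h1)))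
  obtain ⟨x, hx⟩ : ∃ x : SL(2, F), orderOf x = m := by
    obtain ⟨⟨s, hs⟩, ⟨t, ht⟩⟩ := CfsgLib.KnownSimple.exists_sl2_orderOf (F := F)
    rw [← Nat.card_eq_fintype_card] at hs ht
    rcases hm with rfl | rfl
    exacts [⟨s, hs⟩, ⟨t, ht⟩]
  refine ⟨φ x, hφ.mem (fun t => Facts.xU_mem_group hF h48 t) (fun t => Facts.xU_mem_group hF h0 t) x,
    by rw [orderOf_injective φ hinj, hx], fun g hg => ?_⟩
  exact (Subgroup.mem_centralizer_singleton_iff.1 (hφ.mem (H := Subgroup.centralizer {g})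
    (fun t => Subgroup.mem_centralizer_singleton_iff.2 (hg 47 (by simp) t).symm.eq)
    (fun t => Subgroup.mem_centralizer_singleton_iff.2 (hg 0 (by simp) t).symm.eq) x) :
      Commute (φ x) g).symm

omit [CharP F 2] in
theorem exists_subtype {x : GL chevF4.Idx F} (hx : x ∈ chevF4.group F) {m : ℕ} (h : orderOf x = m) :
    ∃ z : ↥(chevF4.group F), orderOf z = m := ⟨⟨x, hx⟩, by rw [← Subgroup.orderOf_coe]; exact h⟩

/-- An odd prime of low order is adjacent to two. -/
theorem adjacent_two {s : ℕ} (hs : s.Prime) (hs2 : s ≠ 2)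
    (he : orderOf (Nat.card F : ZMod s) ∈ [1, 2, 3, 4, 6]) :
    ∃ z : ↥(chevF4.group F), orderOf z = 2 * s := by
  obtain ⟨g, hg, N, hgN, hN, hdvd, hc⟩ := exists_low (F := F) he
  obtain ⟨x, ⟨j, rfl⟩, hx⟩ := exists_orderOf_dvd hgN hN (hdvd s hs hs2 rfl)
  have h47 : (47 : ℕ) < chevF4.nroots := by rw [simples.2.2.2.1]; norm_num
  have hu : orderOf (xU D 47 (1 : F)) = 2 := by
    refine orderOf_eq_prime ?_ fun h => one_ne_zero (Facts.xU_eq_one hF h47 h)
    rw [pow_two, Facts.xU_add hF h47, CharTwo.add_self_eq_zero, Facts.xU_zero hF h47]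
  refine exists_subtype (Subgroup.mul_mem _ (Facts.xU_mem_group hF h47 (1 : F))
    (Subgroup.pow_mem _ hg j)) ?_
  rw [((hc 47 (by simp) 1).pow_left j).symm.orderOf_mul_eq_mul_orderOf_of_coprime
    (by rw [hu, hx]; exact (Nat.coprime_primes Nat.prime_two hs).2 (Ne.symm hs2)), hu, hx]

/-- An odd prime with `e ≤ 2` is adjacent to every odd prime with `e ≤ 6`. -/
theorem adjacent_small {r s : ℕ} (hr : r.Prime) (hs : s.Prime) (hrs : r ≠ s) (hr2 : r ≠ 2)
    (hs2 : s ≠ 2) (her : orderOf (Nat.card F : ZMod r) ∈ [1, 2])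
    (hes : orderOf (Nat.card F : ZMod s) ∈ [1, 2, 3, 4, 6]) :
    ∃ z : ↥(chevF4.group F), orderOf z = r * s := by
  obtain ⟨g, hg, N, hgN, hN, hdvd, hc⟩ := exists_low (F := F) hes
  obtain ⟨x, ⟨j, rfl⟩, hx⟩ := exists_orderOf_dvd hgN hN (hdvd s hs hs2 rfl)
  set q := Nat.card F with hq
  have hq2 : 2 ≤ q := Finite.one_lt_card
  haveI : Fact r.Prime := ⟨hr⟩
  obtain ⟨m, hm, hrm⟩ : ∃ m, (m = q - 1 ∨ m = q + 1) ∧ r ∣ m := by
    simp only [List.mem_cons, List.not_mem_nil, or_false] at her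
    rcases her with h | h
    · refine ⟨q - 1, Or.inl rfl, ?_⟩
      have := dvd_of_orderOf (q := q) (s := r) (N := 1) (by omega) h dvd_rfl
      rwa [pow_one] at this
    · refine ⟨q + 1, Or.inr rfl, ?_⟩
      rw [← ZMod.natCast_eq_zero_iff, Nat.cast_add, Nat.cast_one]
      have h1 : ((q : ZMod r) - 1) * ((q : ZMod r) + 1) = 0 := by
        have := h ▸ pow_orderOf_eq_one (q : ZMod r)
        linear_combination this
      refine (mul_eq_zero.1 h1).resolve_left fun h' => ?_
      rw [orderOf_eq_one_iff.2 (sub_eq_zero.1 h')] at h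
      omega
  obtain ⟨t, ht, htm, hcom⟩ := exists_root (F := F) m hm
  obtain ⟨y, ⟨i, rfl⟩, hy⟩ := exists_orderOf_dvd htm (by omega) hrm
  refine exists_subtype (Subgroup.mul_mem _ (Subgroup.pow_mem _ ht i) (Subgroup.pow_mem _ hg j)) ?_
  rw [((hcom g hc).symm.pow_pow i j).orderOf_mul_eq_mul_orderOf_of_coprime
    (by rw [hy, hx]; exact (Nat.coprime_primes hr hs).2 hrs), hy, hx]

/-- Primes of equal order are adjacent. -/
theorem adjacent_same {r s : ℕ} (hr : r.Prime) (hs : s.Prime) (hrs : r ≠ s) (hr2 : r ≠ 2)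
    (hs2 : s ≠ 2) (hrG : r ∣ Nat.card ↥(chevF4.group F))
    (he : orderOf (Nat.card F : ZMod r) = orderOf (Nat.card F : ZMod s)) :
    ∃ z : ↥(chevF4.group F), orderOf z = r * s := by
  set q := Nat.card F with hq
  have hmem := order_cases (F := F) hr hr2 hrG
  by_cases hlow : orderOf (q : ZMod r) ∈ [1, 2, 3, 4, 6]
  · obtain ⟨g, hg, N, hgN, hN, hdvd, -⟩ := exists_low (F := F) hlow
    obtain ⟨x, ⟨j, rfl⟩, hx⟩ := exists_orderOf_dvd hgN hN
      (((Nat.coprime_primes hr hs).2 hrs).mul_dvd_of_dvd_of_dvd (hdvd r hr hr2 rfl)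
        (hdvd s hs hs2 he.symm))
    exact exists_subtype (Subgroup.pow_mem _ hg j) hx
  · have h8 : orderOf (q : ZMod r) = 8 ∨ orderOf (q : ZMod r) = 12 := by
      simp only [List.mem_cons, List.not_mem_nil, or_false, not_or, ← hq] at hmem hlow ⊢
      tauto
    haveI : Fact r.Prime := ⟨hr⟩
    haveI : Finite ↥(chevF4.group F) := Nat.finite_of_card_ne_zero fun h0 => by
      rw [order_degs] at h0
      have hq2 : 2 ≤ q := Finite.one_lt_card
      simp only [List.map_cons, List.map_nil, List.prod_cons, List.prod_nil, mul_one,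
        mul_eq_zero, pow_eq_zero_iff', Nat.sub_eq_zero_iff_le] at h0
      have := Nat.one_lt_pow (n := 2) (by norm_num) (show 1 < Nat.card F by omega)
      have := Nat.one_lt_pow (n := 6) (by norm_num) (show 1 < Nat.card F by omega)
      have := Nat.one_lt_pow (n := 8) (by norm_num) (show 1 < Nat.card F by omega)
      have := Nat.one_lt_pow (n := 12) (by norm_num) (show 1 < Nat.card F by omega)
      omega
    obtain ⟨h, hh⟩ := exists_prime_orderOf_dvd_card' r hrG
    obtain ⟨H, hcyc, hcard, -⟩ := centralizer_cyclic h8 hr rfl h hh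
    have hdiv : ∀ p : ℕ, p.Prime → orderOf (q : ZMod p) = orderOf (q : ZMod r) → p ∣ Nat.card ↥H := by
      intro p hp ho
      haveI : Fact p.Prime := ⟨hp⟩
      obtain ⟨hlt, hdp⟩ := orderOf_lt_prime hp ho (by omega)
      haveI : NeZero (orderOf (q : ZMod r) : ZMod p) := ⟨fun h0 => by
        have := Nat.le_of_dvd (by omega) ((ZMod.natCast_eq_zero_iff _ _).1 h0)
        omega⟩
      have hroot := (Polynomial.isRoot_cyclotomic_iff (n := orderOf (q : ZMod r))).2
        (ho ▸ IsPrimitiveRoot.orderOf (q : ZMod p))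
      rw [Polynomial.IsRoot.def, ← Polynomial.map_cyclotomic_int, Polynomial.eval_map,
        show ((q : ℕ) : ZMod p) = (Int.castRingHom (ZMod p)) (q : ℤ) by simp,
        Polynomial.eval₂_at_apply, ← hcard] at hroot
      rw [← ZMod.natCast_eq_zero_iff]
      simpa using hroot
    obtain ⟨g, hg⟩ := hcyc.exists_ofOrder_eq_natCard
    obtain ⟨x, -, hx⟩ := exists_orderOf_dvd hg Nat.card_pos.ne'
      (((Nat.coprime_primes hr hs).2 hrs).mul_dvd_of_dvd_of_dvd (hdiv r hr rfl) (hdiv s hs he.symm))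
    exact ⟨(x : ↥(chevF4.group F)), by rw [Subgroup.orderOf_coe, hx]⟩

/-- The adjacency criterion. -/
theorem criterion {r s : ℕ} (hr : r.Prime) (hs : s.Prime) (hrs : r ≠ s)
    (hrG : r ∣ Nat.card ↥(chevF4.group F)) (hsG : s ∣ Nat.card ↥(chevF4.group F)) :
    (¬ ∃ x : ↥(chevF4.group F), orderOf x = r * s) ↔
      ((r = 2 ∧ orderOf (Nat.card F : ZMod s) ∈ ({8, 12} : Finset ℕ)) ∨
       (s = 2 ∧ orderOf (Nat.card F : ZMod r) ∈ ({8, 12} : Finset ℕ)) ∨
       (r ≠ 2 ∧ s ≠ 2 ∧
         ((orderOf (Nat.card F : ZMod r) < orderOf (Nat.card F : ZMod s) ∧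
            (orderOf (Nat.card F : ZMod s) ∈ ({8, 12} : Finset ℕ) ∨
             (orderOf (Nat.card F : ZMod s) = 6 ∧ orderOf (Nat.card F : ZMod r) ∈ ({3, 4} : Finset ℕ)) ∨
             (orderOf (Nat.card F : ZMod s) = 4 ∧ orderOf (Nat.card F : ZMod r) = 3))) ∨
          (orderOf (Nat.card F : ZMod s) < orderOf (Nat.card F : ZMod r) ∧
            (orderOf (Nat.card F : ZMod r) ∈ ({8, 12} : Finset ℕ) ∨
             (orderOf (Nat.card F : ZMod r) = 6 ∧ orderOf (Nat.card F : ZMod s) ∈ ({3, 4} : Finset ℕ)) ∨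
             (orderOf (Nat.card F : ZMod r) = 4 ∧ orderOf (Nat.card F : ZMod s) = 3)))))) := by
  have hev : 2 ∣ Nat.card F := by
    haveI := Fintype.ofFinite F
    obtain ⟨f, -, hf⟩ := FiniteField.card F 2
    rw [Nat.card_eq_fintype_card, hf]
    exact dvd_pow_self 2 f.ne_zero
  set k := orderOf (Nat.card F : ZMod r) with hk
  set l := orderOf (Nat.card F : ZMod s) with hl
  simp only [Finset.mem_insert, Finset.mem_singleton]
  by_cases hr2 : r = 2
  · have hs2 : s ≠ 2 := fun h => hrs (hr2.trans h.symm)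
    have hls := order_cases (F := F) hs hs2 hsG
    rw [← hl] at hls
    simp only [List.mem_cons, List.not_mem_nil, or_false] at hls
    constructor
    · intro hno
      refine Or.inl ⟨hr2, ?_⟩
      by_contra h8
      push Not at h8
      subst hr2
      exact hno (adjacent_two hs hs2 (by
        rw [← hl]; simp only [List.mem_cons, List.not_mem_nil, or_false]; omega))
    · rintro (⟨-, h⟩ | ⟨h, -⟩ | ⟨h, -⟩)
      · exact fun ⟨z, hz⟩ => not_adjacent_top hr hs hrs h hl.symm hev (Or.inl hr2) z hz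
      · exact absurd h hs2
      · exact absurd hr2 h
  by_cases hs2 : s = 2
  · have hkr := order_cases (F := F) hr hr2 hrG
    rw [← hk] at hkr
    simp only [List.mem_cons, List.not_mem_nil, or_false] at hkr
    constructor
    · intro hno
      refine Or.inr (Or.inl ⟨hs2, ?_⟩)
      by_contra h8
      push Not at h8
      subst hs2
      obtain ⟨z, hz⟩ := adjacent_two (F := F) hr hr2 (by
        rw [← hk]; simp only [List.mem_cons, List.not_mem_nil, or_false]; omega)
      exact hno ⟨z, by rw [hz, mul_comm]⟩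
    · rintro (⟨h, -⟩ | ⟨-, h⟩ | ⟨-, h, -⟩)
      · exact absurd h hr2
      · exact fun ⟨z, hz⟩ => not_adjacent_top hs hr (Ne.symm hrs) h hk.symm hev (Or.inl hs2) z
          (by rw [hz, mul_comm])
      · exact absurd hs2 h
  have hkr := order_cases (F := F) hr hr2 hrG
  have hls := order_cases (F := F) hs hs2 hsG
  rw [← hk] at hkr
  rw [← hl] at hls
  simp only [List.mem_cons, List.not_mem_nil, or_false] at hkr hls
  constructor
  · intro hno
    refine Or.inr (Or.inr ⟨hr2, hs2, ?_⟩)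
    by_contra hcon
    rcases lt_trichotomy k l with h | h | h
    · exact hno (adjacent_small hr hs hrs hr2 hs2
        (by rw [← hk]; simp only [List.mem_cons, List.not_mem_nil, or_false]; omega)
        (by rw [← hl]; simp only [List.mem_cons, List.not_mem_nil, or_false]; omega))
    · exact hno (adjacent_same hr hs hrs hr2 hs2 hrG h)
    · obtain ⟨z, hz⟩ := adjacent_small (F := F) hs hr (Ne.symm hrs) hs2 hr2
        (by rw [← hl]; simp only [List.mem_cons, List.not_mem_nil, or_false]; omega)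
        (by rw [← hk]; simp only [List.mem_cons, List.not_mem_nil, or_false]; omega)
      exact hno ⟨z, by rw [hz, mul_comm]⟩
  · rintro (⟨h, -⟩ | ⟨h, -⟩ | ⟨-, -, h⟩) ⟨z, hz⟩
    · exact hr2 h
    · exact hs2 h
    rcases h with ⟨hlt, h | h | h⟩ | ⟨hlt, h | h | h⟩
    · exact not_adjacent_top hr hs hrs h hl.symm hev (Or.inr (by rw [← hk]; omega)) z hz
    · exact not_adjacent_mid hr hs (d := k) (e := l) (by omega) (by omega) (by omega) hk.symm hl.symm z hz
    · exact not_adjacent_mid hr hs (d := k) (e := l) (by omega) (by omega) (by omega) hk.symm hl.symm z hz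
    · exact not_adjacent_top hs hr (Ne.symm hrs) h hk.symm hev (Or.inr (by rw [← hl]; omega)) z
        (by rw [hz, mul_comm])
    · exact not_adjacent_mid hr hs (d := k) (e := l) (by omega) (by omega) (by omega) hk.symm hl.symm z hz
    · exact not_adjacent_mid hr hs (d := k) (e := l) (by omega) (by omega) (by omega) hk.symm hl.symm z hz

end CfsgLib.Known.F4Graph
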