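import Cfsg.Agent.Lib.Known.ChevSinger.Torus
import Cfsg.Agent.Lib.Chev.SL2
import Cfsg.Agent.Lib.Chev.CT.SingleBond.Root
import Cfsg.Agent.Lib.Chev.Data.F4
import Cfsg.Agent.Lib.KnownSimple.SpConstruct

/-!
# Twisted rank one subgroups of `F₄(2ⁿ)` inside the centraliser of the long root `SL₂`

Two orthogonal short roots exchanged by a reflection and three orthogonal long roots permuted cyclically
give `SL₂(q²)` and `SL₂(q³)` inside the subgroup generated by the roots orthogonal to the highest root.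
-/

set_option autoImplicit false
set_option maxRecDepth 20000

namespace CfsgLib.Known.F4Graph

open Cfsg.Lie CfsgLib.Chev CfsgLib.Known.ChevSinger
open scoped MatrixGroups

universe u v

local notation "D" => chevF4
local notation "hF" => DataF4.facts

/-- The roots orthogonal to the highest root. -/
def Sub (r : ℕ) : Prop := DataF4.co r 3 = 0

/-- The subgroup of the roots orthogonal to the highest root. -/
noncomputable abbrev subC (K : Type*) [Field K] : Subgroup (GL chevF4.Idx K) := rootClosure D K Sub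

theorem sub_top : ∀ r : Fin chevF4.nroots, DataF4.co r.val 3 = 0 → ∀ s ∈ [0, 47],
    s ≠ r.val ∧ s ≠ chevF4.neg r.val ∧ chevF4.commTerms r.val s = [] := by decide +kernel

theorem sub_two : ∀ r ∈ [27, 20], ∀ s ∈ [28, 19],
    s ≠ r ∧ s ≠ chevF4.neg r ∧
      ∀ c ∈ chevF4.commTerms r s, c.1 < chevF4.nroots ∧ (2 : ℤ) ∣ c.2.1 := by decide +kernel

theorem sub_three : ∀ r ∈ [25, 22], ∀ s ∈ [41, 6, 30, 17],
    s ≠ r ∧ s ≠ chevF4.neg r ∧ chevF4.commTerms r s = [] := by decide +kernel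

theorem sub_three' : ∀ r ∈ [41, 6], ∀ s ∈ [30, 17],
    s ≠ r ∧ s ≠ chevF4.neg r ∧ chevF4.commTerms r s = [] := by decide +kernel

theorem simples : chevF4.simple 0 = 33 ∧ chevF4.simple 1 = 27 ∧ chevF4.simple 2 = 25 ∧
    chevF4.nroots = 48 ∧ chevF4.rank = 4 := by decide +kernel

theorem negs : chevF4.neg 27 = 20 ∧ chevF4.neg 28 = 19 ∧ chevF4.neg 25 = 22 ∧ chevF4.neg 41 = 6 ∧
    chevF4.neg 30 = 17 ∧ chevF4.neg 47 = 0 ∧ chevF4.neg 33 = 14 := by decide +kernel

theorem refl_two : chevF4.reflectRoot 2 27 = 28 ∧ chevF4.reflectRoot 2 28 = 27 ∧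
    chevF4.reflectRoot 2 20 = 19 ∧ chevF4.reflectRoot 2 19 = 20 := by decide +kernel

theorem refl_three : (∀ p ∈ [(25, 41), (41, 30), (30, 25), (22, 6), (6, 17), (17, 22)],
    chevF4.reflectRoot 0 (chevF4.reflectRoot 1 p.1) = p.2) := by decide +kernel

theorem edge : CT.SB.EdgeOK chevF4 0 1 := by
  refine ⟨?_, ?_, ?_⟩ <;> decide +kernel

theorem edge_ix : (CT.SB.ix chevF4 0 1 0 1 = 33 ∧ CT.SB.ix chevF4 0 1 1 0 = 14) ∧
    (CT.SB.ix chevF4 0 1 1 2 = 27 ∧ CT.SB.ix chevF4 0 1 2 1 = 20) ∧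
    ∀ i j : Fin 3, i ≠ j → DataF4.co (CT.SB.ix chevF4 0 1 i j) 3 = 0 := by decide +kernel

theorem sub_roots : ∀ r ∈ [33, 14, 27, 20, 28, 19, 25, 22, 41, 6, 30, 17],
    r < 48 ∧ DataF4.co r 3 = 0 := by decide +kernel

variable {K : Type v} [Field K]

theorem xU_mem_sub {r : ℕ} (hr : r ∈ [33, 14, 27, 20, 28, 19, 25, 22, 41, 6, 30, 17]) (t : K) :
    xU D r t ∈ subC K :=
  xU_mem_rootClosure (simples.2.2.2.1 ▸ (sub_roots r hr).1) (sub_roots r hr).2 t

theorem sub_le_group : subC K ≤ chevF4.group K := by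
  rw [Facts.group_eq hF]
  exact rootClosure_mono fun _ _ _ => trivial

theorem comm_of_even [CharP K 2] (hC : CommF.{v} chevF4) {r s : ℕ} (hr : r < chevF4.nroots)
    (hs : s < chevF4.nroots)
    (h : s ≠ r ∧ s ≠ chevF4.neg r ∧
      ∀ c ∈ chevF4.commTerms r s, c.1 < chevF4.nroots ∧ (2 : ℤ) ∣ c.2.1) (t u : K) :
    Commute (xU D r t) (xU D s u) := by
  show xU D r t * xU D s u = xU D s u * xU D r t
  rw [Facts.xU_comm hF hC hr hs h.1 h.2.1]
  have : wU D (cwR D r s t u) = 1 := by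
    refine List.prod_eq_one fun g hg => ?_
    simp only [cwR, List.map_map, List.mem_map] at hg
    obtain ⟨c, hc, rfl⟩ := hg
    obtain ⟨hlt, z, hz⟩ := h.2.2 c hc
    have h2 : ((c.2.1 : ℤ) : K) = 0 := by
      rw [hz, Int.cast_mul]
      have : ((2 : ℤ) : K) = 0 := by
        have := CharP.cast_eq_zero K 2
        exact_mod_cast this
      rw [this, zero_mul]
    simp only [Function.comp_apply, h2, zero_mul]
    rw [Facts.xU_zero hF hlt]
  rw [this, mul_one]

/-- The highest root elements commute with the subgroup. -/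
theorem sub_commute (hC : CommF.{v} chevF4) {g : GL chevF4.Idx K} (hg : g ∈ subC K) {s : ℕ}
    (hs : s ∈ [0, 47]) (u : K) : Commute g (xU D s u) := by
  have hs' : s < chevF4.nroots := by
    rw [simples.2.2.2.1]
    rcases List.mem_cons.1 hs with rfl | h
    · norm_num
    · rw [List.mem_singleton.1 h]; norm_num
  have hle : subC K ≤ Subgroup.centralizer ({xU D s u} : Set (GL chevF4.Idx K)) := by
    refine (Subgroup.closure_le _).2 ?_
    rintro x ⟨r, t, hr, hP, rfl⟩
    exact Subgroup.mem_centralizer_singleton_iff.2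
      (CT.SB.commute_xU hF hC hr hs' (Or.inr (sub_top ⟨r, hr⟩ hP s hs)) t u).eq
  exact Subgroup.mem_centralizer_singleton_iff.1 (hle hg)

theorem extG_nU {F : Type u} [Field F] (ι : F →+* K) {r : ℕ} (hr : r < chevF4.nroots) (t : F) :
    extG D ι (nU D r t) = nU D r (ι t) := by
  simp only [nU, map_mul, extG_xU ι hF hr, extG_xU ι hF (Facts.neg_lt hF hr), map_neg, map_inv₀]

/-- A Lang solution for the reflection in the fundamental root `25`. -/
theorem lang_two [CharP K 2] (σ : K →+* K) {a : K} (ha : σ a = a + 1) :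
    ∃ P ∈ subC K, P⁻¹ * extG D σ P = nU D 25 (1 : K) := by
  have h25 : 25 < chevF4.nroots := by rw [simples.2.2.2.1]; norm_num
  have h22 : 22 < chevF4.nroots := by rw [simples.2.2.2.1]; norm_num
  have hneg : (-1 : K) = 1 := CharTwo.neg_eq 1
  refine ⟨xU D 22 a * (xU D 25 1)⁻¹, Subgroup.mul_mem _ (xU_mem_sub (by simp) _)
    (Subgroup.inv_mem _ (xU_mem_sub (by simp) _)), ?_⟩
  rw [map_mul, map_inv, extG_xU σ hF h22, extG_xU σ hF h25, map_one, ha, ← Facts.xU_add hF h22,
    nU, negs.2.2.1, inv_one, hneg, mul_inv_rev, inv_inv]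
  rw [show (xU D 25 (1 : K))⁻¹ = xU D 25 1 by rw [Facts.xU_inv hF h25, hneg]]
  group

/-- A Lang solution for the product of the reflections in the fundamental roots `33` and `27`. -/
theorem lang_three [CharP K 2] [Finite K] (hC : CommF.{v} chevF4) (σ : K →+* K)
    (hσ3 : ∀ x, σ (σ (σ x)) = x) {b : K} (hb : σ b ≠ b) :
    ∃ P ∈ subC K, P⁻¹ * extG D σ P = nU D 33 (1 : K) * nU D 27 (1 : K) := by
  obtain ⟨ρ, hρ⟩ := CT.SB.exists_hom3 (F := K) hF hC edge
  have hneg : (-1 : K) = 1 := CharTwo.neg_eq 1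
  have hsg : ∀ i j : Fin 3, i ≠ j → ((CT.SB.sg chevF4 0 1 i j : ℤ) : K) = 1 := fun i j hij => by
    rcases (edge.1 i j hij).2 with e | e <;> rw [e] <;> simp [hneg]
  have hx : ∀ (i j : Fin 3) (hij : i ≠ j) (t : K),
      ρ (Matrix.SpecialLinearGroup.transvection hij t) = xU D (CT.SB.ix chevF4 0 1 i j) t :=
    fun i j hij t => by rw [hρ i j hij t, CT.SB.xE, hsg i j hij, one_mul]
  have hgen : Subgroup.closure {g : SL(3, K) | ∃ (i j : Fin 3) (hij : i ≠ j) (t : K),
      g = Matrix.SpecialLinearGroup.transvection hij t} = ⊤ :=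
    CfsgLib.Classical.SL_le_of_transvections
      (Subgroup.closure {g : SL(3, K) | ∃ (i j : Fin 3) (hij : i ≠ j) (t : K),
        g = Matrix.SpecialLinearGroup.transvection hij t})
      fun i j hij c => Subgroup.subset_closure ⟨i, j, hij, c, rfl⟩
  have hnat : ∀ g : SL(3, K), extG D σ (ρ g) = ρ (Matrix.SpecialLinearGroup.map σ g) := by
    intro g
    refine DFunLike.congr_fun (MonoidHom.eq_of_eqOn_dense (f := (extG D σ).comp ρ)
      (g := ρ.comp (Matrix.SpecialLinearGroup.map σ)) hgen ?_) g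
    rintro _ ⟨i, j, hij, t, rfl⟩
    have e : Matrix.SpecialLinearGroup.map σ (Matrix.SpecialLinearGroup.transvection hij t) =
        Matrix.SpecialLinearGroup.transvection hij (σ t) := by
      refine Subtype.ext ?_
      show (Matrix.transvection i j t).map σ = Matrix.transvection i j (σ t)
      ext a c
      simp [Matrix.transvection, Matrix.one_apply, Matrix.single, apply_ite σ]
    show extG D σ (ρ _) = ρ (Matrix.SpecialLinearGroup.map σ _)
    rw [e, hx, hx, extG_xU σ hF (edge.1 i j hij).1]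
  have hmem : ∀ g : SL(3, K), ρ g ∈ subC K := by
    intro g
    have : (⊤ : Subgroup SL(3, K)) ≤ (subC K).comap ρ := by
      rw [← hgen, Subgroup.closure_le]
      rintro _ ⟨i, j, hij, t, rfl⟩
      rw [SetLike.mem_coe, Subgroup.mem_comap, hx]
      exact xU_mem_rootClosure (edge.1 i j hij).1 (edge_ix.2.2 i j hij) _
    exact this (Subgroup.mem_top g)
  -- the permutation matrix
  have h01 : (0 : Fin 3) ≠ 1 := by decide
  have h12 : (1 : Fin 3) ≠ 2 := by decide
  let T := fun (i j : Fin 3) (h : i ≠ j) => Matrix.SpecialLinearGroup.transvection h (1 : K)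
  let N : SL(3, K) := (T 0 1 h01 * T 1 0 h01.symm * T 0 1 h01) *
    (T 1 2 h12 * T 2 1 h12.symm * T 1 2 h12)
  have hN : ρ N = nU D 33 (1 : K) * nU D 27 (1 : K) := by
    simp only [N, T, map_mul, hx, edge_ix.1.1, edge_ix.1.2, edge_ix.2.1.1, edge_ix.2.1.2, nU,
      negs.1, negs.2.2.2.2.2.2, inv_one, hneg]
  have hNv : (N : Matrix (Fin 3) (Fin 3) K) = !![0, 0, 1; 1, 0, 0; 0, 1, 0] := by
    have h2 : (1 : K) + 1 = 0 := CharTwo.add_self_eq_zero 1
    simp only [N, T, Matrix.SpecialLinearGroup.coe_mul]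
    ext i j
    fin_cases i <;> fin_cases j <;>
      simp [Matrix.mul_apply, Fin.sum_univ_three, Matrix.SpecialLinearGroup.transvection,
        Matrix.transvection, Matrix.single, h2]
  -- the Moore matrix
  have hinj : Function.Injective σ := σ.injective
  have hb2 : σ (σ b) ≠ b := fun e => hb (by conv_rhs => rw [← hσ3 b, e])
  have hb12 : σ (σ b) ≠ σ b := fun e => hb (hinj e)
  let v : Fin 3 → K := ![b, σ b, σ (σ b)]
  let M : Matrix (Fin 3) (Fin 3) K := (Matrix.vandermonde v).transpose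
  have hM0 : M.det ≠ 0 := by
    rw [Matrix.det_transpose, Matrix.det_vandermonde_ne_zero_iff]
    intro i j h
    fin_cases i <;> fin_cases j <;> simp [v] at h ⊢ <;>
      first
      | exact hb h.symm
      | exact hb h
      | exact hb2 h
      | exact hb2 h.symm
      | exact hb12 h
      | exact hb12 h.symm
  have hσM : M.map σ = M * (N : Matrix (Fin 3) (Fin 3) K) := by
    rw [hNv]
    ext i j
    fin_cases j <;>
      simp [M, v, Matrix.vandermonde, Matrix.mul_apply, Fin.sum_univ_three, map_pow, hσ3]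
  have hdet : σ M.det = M.det := by
    rw [RingHom.map_det, RingHom.mapMatrix_apply, hσM, Matrix.det_mul, N.2, mul_one]
  let E : Matrix (Fin 3) (Fin 3) K := Matrix.diagonal ![M.det⁻¹, 1, 1]
  have hEd : (E * M).det = 1 := by
    rw [Matrix.det_mul, Matrix.det_diagonal, Fin.prod_univ_three]
    simp [inv_mul_cancel₀ hM0]
  let P : SL(3, K) := ⟨E * M, hEd⟩
  refine ⟨ρ P, hmem P, ?_⟩
  rw [hnat, ← map_inv, ← map_mul, ← hN]
  congr 1
  rw [inv_mul_eq_iff_eq_mul]
  refine Subtype.ext ?_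
  show (E * M).map σ = E * M * (N : Matrix (Fin 3) (Fin 3) K)
  rw [Matrix.map_mul, hσM, Matrix.mul_assoc]
  congr 1
  rw [Matrix.diagonal_map (map_zero σ)]
  congr 1
  funext i
  fin_cases i <;> simp [map_inv₀, hdet]

end CfsgLib.Known.F4Graph
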